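import Cfsg.Agent.Lib.InvChar.SuzOrder.Space
import Cfsg.Agent.Lib.InvChar.SuzT.ZT

/-!
# The involutions of the central class outside `Q`

Each of them is, after conjugation inside `C(z)`, a member of `C_Q(u) C_{Q'}(z)`; it induces a
transvection of a totally singular line, and every point of the line can serve as the axis.
-/

set_option autoImplicit false
set_option linter.unusedSectionVars false

namespace CfsgLib.InvChar.SuzOrder

open Subgroup SuzType SuzT

variable {G : Type*} [Group G] [Finite G]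

/-- A cyclic group contains at most one involution. -/
theorem invol_unique {g a b : G} (ha : a ∈ zpowers g) (haa : a * a = 1) (ha1 : a ≠ 1)
    (hb : b ∈ zpowers g) (hbb : b * b = 1) (hb1 : b ≠ 1) : a = b := by
  classical
  have := Fintype.ofFinite ↥(zpowers g)
  by_contra hne
  let A : ↥(zpowers g) := ⟨a, ha⟩
  let B : ↥(zpowers g) := ⟨b, hb⟩
  have h := IsCyclic.card_pow_eq_one_le (α := ↥(zpowers g)) (n := 2) (by norm_num)
  have hsub : ({1, A, B} : Finset ↥(zpowers g)) ⊆ Finset.univ.filter fun x => x ^ 2 = 1 := by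
    intro x hx
    simp only [Finset.mem_insert, Finset.mem_singleton] at hx
    refine Finset.mem_filter.2 ⟨Finset.mem_univ _, ?_⟩
    rcases hx with rfl | rfl | rfl
    · simp
    · exact Subtype.ext (by simpa [pow_two, A] using haa)
    · exact Subtype.ext (by simpa [pow_two, B] using hbb)
  have hc : ({1, A, B} : Finset ↥(zpowers g)).card = 3 := by
    have h1 : (1 : ↥(zpowers g)) ≠ A := fun e => ha1 (congrArg Subtype.val e).symm
    have h2 : (1 : ↥(zpowers g)) ≠ B := fun e => hb1 (congrArg Subtype.val e).symm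
    have h3 : A ≠ B := fun e => hne (congrArg Subtype.val e)
    rw [Finset.card_insert_of_notMem (by simp [h1, h2]), Finset.card_pair h3]
  have := (Finset.card_le_card hsub).trans h
  omega

theorem invol_of_isConj {z x : G} (hz : z * z = 1) (hz1 : z ≠ 1) (h : IsConj z x) :
    x * x = 1 ∧ x ≠ 1 := by
  obtain ⟨k, hk⟩ := isConj_iff.1 h
  refine ⟨?_, fun e => hz1 (conj_eq_one_iff.1 (hk.trans e))⟩
  rw [← hk, show k * z * k⁻¹ * (k * z * k⁻¹) = k * (z * z) * k⁻¹ by group, hz]; group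

variable {z u : G} {Q Q' : Subgroup G} {φ φ' : G → V} (P : Pair z u Q Q' φ φ')
include P

theorem sq_val {g : G} {p : W × W} (h : HasPar P g p) :
    g * g = P.cz (sqv p).1 (sqv p).2 := HasPar.sq P h

theorem cz_cases {i j : ZMod 2} (h : (i, j) ≠ ((0, 0) : ZMod 2 × ZMod 2)) :
    P.cz i j = z ∨ P.cz i j = u ∨ P.cz i j = z * u := by
  rcases z2_cases' i with rfl | rfl <;> rcases z2_cases' j with rfl | rfl
  · exact absurd rfl h
  · exact Or.inr (Or.inl (by simp [Pair.cz, zp_zero, zp_one]))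
  · exact Or.inl (by simp [Pair.cz, zp_zero, zp_one])
  · exact Or.inr (Or.inr (by simp [Pair.cz, zp_one]))

theorem par_of_mem {g : G} (hg : g ∈ Q) (hgu : g * u = u * g) : HasPar P g ((φ g).2, 0) :=
  ⟨g, hg, 1, one_mem _, hgu, by simp, by simp, rfl, by rw [P.ww_one]⟩

theorem mem_Q_iff {g : G} {p : W × W} (h : HasPar P g p) : g ∈ Q ↔ p.2 = 0 := by
  refine ⟨fun hg => ?_, fun h0 => ?_⟩
  · rw [HasPar.ext_par P h (par_of_mem P hg (HasPar.comm_u P h))]
  · obtain ⟨a, ha, b, hb, hau, hbz, rfl, h1, h2⟩ := h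
    exact mul_mem ha (Pair.InR.mem P (P.mem_of_ww hb hbz (h2.trans h0))).1

theorem mem_Q'_of {g : G} {p : W × W} (h : HasPar P g p) (h0 : p.1 = 0) : g ∈ Q' := by
  obtain ⟨a, ha, b, hb, hau, hbz, rfl, h1, h2⟩ := h
  exact mul_mem (Pair.InR.mem P (P.inR_of_phi ha hau (h1.trans h0))).2 hb

theorem par_yv {g : G} {p : W × W} (h : HasPar P g p) :
    HasPar P (P.yv * g * P.yv⁻¹) (p.1 + p.2, p.2) := by
  obtain ⟨a, ha, b, hb, hau, hbz, rfl, h1, h2⟩ := h
  have hy := P.S.commQ P.yv_mem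
  have hya : P.yv * a * P.yv⁻¹ ∈ Q := P.S.norm hy ha
  refine ⟨P.yv * a * P.yv⁻¹ * (P.yv * b * P.yv⁻¹ * b⁻¹), mul_mem hya (P.cc_mem hbz), b, hb,
    mul_comm_z ?_ (P.cc_u hb hbz), hbz, by group, ?_, h2⟩
  · refine (P.comm_u hya).2 ?_
    rw [← P.S.act_phi hy ha, P.S.act_of_mem P.yv_mem, (P.comm_u ha).1 hau]
  · rw [P.S.hadd _ hya _ (P.cc_mem hbz), ← P.S.act_phi hy ha, P.S.act_of_mem P.yv_mem,
      P.cc_phi hbz, Prod.snd_add, h1, h2]

theorem act_par {g : G} {p : W × W} (h : HasPar P g p) (hq : qW p.2 = 0) (x : V) :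
    act Q φ g x = sgl e1 (emb p.2) x := by
  obtain ⟨a, ha, b, hb, hau, hbz, rfl, h1, h2⟩ := h
  rw [P.S.act_mul (P.S.commQ ha) hbz, P.S.act_of_mem ha]
  refine (P.isRad hb hbz).eq_of_cvec
    ⟨sgl_add _ _, fun y => (sg_rad _ hq y).1, (sg_rad _ hq 0).2.2.2.1,
      fun y hy => (sg_rad _ hq y).2.2.2.2 hy⟩ ?_ x
  exact h2.trans (sg_cvec p.2).symm

/-- An involution of `C(z)` with a given axis, in the frame of the axis. -/
theorem exists_frame {g k : G} {v : V} (hgz : g * z = z * g) (hgg : g * g = 1) (hgQ : g ∉ Q)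
    (hvf : act Q φ g v = v)
    (hvp : ∀ x, bf x v = 0 → act Q φ g x = x ∨ act Q φ g x = x + v)
    (hk : k * z = z * k) (hkv : act Q φ k v = e1) :
    ∃ p, HasPar P (k * g * k⁻¹) p := by
  obtain ⟨t', ht'⟩ : ∃ t', t' = k * g * k⁻¹ := ⟨_, rfl⟩
  have htz' : t' * z = z * t' := ht' ▸ mul_comm_z (mul_comm_z hk hgz) (inv_comm_z hk)
  have hact : ∀ x, act Q φ t' x = act Q φ k (act Q φ g (act Q φ k⁻¹ x)) := fun x => by
    rw [ht', P.S.act_mul (mul_comm_z hk hgz) (inv_comm_z hk), P.S.act_mul hk hgz]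
  have hki : act Q φ k⁻¹ e1 = v := by rw [← hkv, P.S.act_inv_left hk]
  have hrad : IsRad (act Q φ t') := by
    refine ⟨P.S.act_add htz', P.S.act_qf htz', by rw [hact, hki, hvf, hkv], fun x hx => ?_⟩
    have h0 : bf (act Q φ k⁻¹ x) v = 0 := by rw [← hki, P.S.act_bf (inv_comm_z hk), hx]
    rw [hact]
    rcases hvp _ h0 with e | e <;> rw [e]
    · rw [P.S.act_inv_right hk]
    · rw [P.S.act_add hk, P.S.act_inv_right hk, hkv, Prod.snd_add,
        show e1.2 = (0 : Pl × Pl) from rfl, add_zero]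
  obtain ⟨b, hb, hbz, hbw⟩ := P.exists_ww hrad.cvec_perp
  have heq : ∀ x, act Q φ t' x = act Q φ b x := hrad.eq_of_cvec (P.isRad hb hbz) hbw.symm
  have hq : t' * b⁻¹ ∈ Q := P.S.mem_of_act_id (mul_comm_z htz' (inv_comm_z hbz)) fun x => by
    rw [P.S.act_mul htz' (inv_comm_z hbz), heq, P.S.act_inv_right hbz]
  have hbne : (P.ww b).2 ≠ 0 := fun h0 => hgQ (by
    have h1 : t' ∈ Q := by
      simpa using mul_mem hq (Pair.InR.mem P (P.mem_of_ww hb hbz h0)).1
    have h2 := P.S.norm (inv_comm_z hk) h1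
    rw [ht', show k⁻¹ * (k * g * k⁻¹) * k⁻¹⁻¹ = g by group] at h2
    exact h2)
  have htt' : t' * t' = 1 := by
    rw [ht', show k * g * k⁻¹ * (k * g * k⁻¹) = k * (g * g) * k⁻¹ by group, hgg]; group
  obtain ⟨a, ha, hab⟩ : ∃ a ∈ Q, t' = a * b := ⟨_, hq, by group⟩
  have hau : a * u = u * a := by
    refine (P.comm_u ha).2 ((z2_cases' _).resolve_right fun hone => hbne ?_)
    have hbb : b * b ∈ Q := by
      rw [P.sq hb hbz]
      rcases z2_cases' (qf (P.ww b)) with e | e <;> rw [e]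
      · rw [zp_zero]; exact one_mem _
      · rw [zp_one]; exact P.mem
    have h0 : φ a + act Q φ b (φ a) + φ (b * b) = 0 := by
      rw [P.S.act_phi hbz ha, ← P.S.hadd a ha _ (P.S.norm hbz ha),
        ← P.S.hadd _ (mul_mem ha (P.S.norm hbz ha)) _ hbb, ← P.S.phi_one, ← htt', hab]
      congr 1; group
    have hR := Pair.InR.phi_snd P (x := b * b) (by
      rw [P.sq hb hbz, ← one_mul (zp u _), ← zp_zero z]; exact P.inR_zp 0 _)
    have hx : bf (φ a + f1) e1 = 0 := by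
      rw [bf_add_left, hone, base_facts.2.2.2.1]; decide
    have h3 := (P.isRad hb hbz).triv _ hx
    rw [P.S.act_add hbz, Prod.snd_add, Prod.snd_add] at h3
    have h4 := congrArg Prod.snd h0
    rw [Prod.snd_add, Prod.snd_add, hR.1, add_zero] at h4
    show (act Q φ b f1 + f1).2 = 0
    rw [Prod.snd_add]
    calc (act Q φ b f1).2 + f1.2
        = ((φ a).2 + (act Q φ b (φ a)).2) + ((act Q φ b f1).2 + f1.2) := by
          rw [show (φ a).2 + (act Q φ b (φ a)).2 = 0 from h4, zero_add]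
      _ = ((act Q φ b (φ a)).2 + (act Q φ b f1).2) + ((φ a).2 + f1.2) := by abel
      _ = 0 := by rw [h3, ← Prod.snd_add, ← Prod.snd_add, v_self]; rfl
  exact ⟨((φ a).2, (P.ww b).2), ht' ▸ ⟨a, ha, b, hb, hau, hbz, hab, rfl, rfl⟩⟩

variable {t : G} (C : Ctx P t)
include C

theorem zpar_of {g : G} {p : W × W} (h : HasPar P g p) (hg : IsConj z g) (hgQ : g ∉ Q) :
    ZPar p := by
  obtain ⟨hgg, hg1⟩ := invol_of_isConj P.S.zz P.S.zne hg
  exact ⟨(sq_eq_one_iff P C h).1 hgg, (conj_z_iff P C h hgg hg1).1 hg.symm,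
    fun e => hgQ ((mem_Q_iff P h).2 e)⟩

theorem of_zpar {g : G} {p : W × W} (h : HasPar P g p) (hp : ZPar p) :
    IsConj z g ∧ g * z = z * g ∧ g ∉ Q := by
  have hgg := (sq_eq_one_iff P C h).2 hp.1
  have hQ : g ∉ Q := fun e => hp.2.2 ((mem_Q_iff P h).1 e)
  exact ⟨(isConj_z_of_par P h hgg (fun e => hQ (e ▸ one_mem Q)) hp.2.1).symm,
    HasPar.comm_z P h, hQ⟩

section Outer

variable {g : G} (hg : IsConj z g) (hgz : g * z = z * g) (hgQ : g ∉ Q)
include hg hgz hgQ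

theorem exists_std_frame : ∃ k p, k * z = z * k ∧ HasPar P (k * g * k⁻¹) p ∧ ZPar p ∧
    ∀ x, act Q φ k (act Q φ g x) = sgl e1 (emb p.2) (act Q φ k x) := by
  obtain ⟨k, hk, a, ha, b, hb, hau, hbz, hab, hbne, hqa, hqb⟩ :=
    P.cases_of_invol hgz (invol_of_isConj P.S.zz P.S.zne hg).1 hgQ
  obtain ⟨p, hp⟩ : ∃ p, HasPar P (k * g * k⁻¹) p :=
    ⟨((φ a).2, (P.ww b).2), a, ha, b, hb, hau, hbz, hab, rfl, rfl⟩
  have hq : ZPar p := zpar_of P C hp (hg.trans (isConj_iff.2 ⟨k, rfl⟩)) fun e => hgQ (by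
    simpa [mul_assoc] using P.S.norm (inv_comm_z hk) e)
  refine ⟨k, p, hk, hp, hq, fun x => ?_⟩
  rw [← act_par P hp (zpar_facts p hq).1, P.S.act_mul (mul_comm_z hk hgz) (inv_comm_z hk),
    P.S.act_inv_left hk, P.S.act_mul hk hgz]

/-- Each point of the line can serve as the axis. -/
theorem axis {x0 v : V} (hx0 : qf x0 = 0) (hne : x0 ≠ 0)
    (hv : (act Q φ g x0 = x0 ∧ v = x0) ∨ (act Q φ g x0 ≠ x0 ∧ v = act Q φ g x0 + x0))
    {k : G} (hk : k * z = z * k) (hkv : act Q φ k v = e1) :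
    ∃ p, HasPar P (k * g * k⁻¹) p ∧ ZPar p := by
  obtain ⟨k0, p0, hk0, -, hp0, hact⟩ := exists_std_frame P C hg hgz hgQ
  obtain ⟨hgg, -⟩ := invol_of_isConj P.S.zz P.S.zne hg
  have inj : ∀ a b, act Q φ k0 a = act Q φ k0 b → a = b := fun a b e => by
    rw [← P.S.act_inv_left hk0 a, e, P.S.act_inv_left hk0]
  have h00 : act Q φ k0 0 = 0 := by
    have h := P.S.act_add hk0 0 0
    rw [add_zero] at h
    exact left_eq_add.1 h
  have hq0 : qf (act Q φ k0 x0) = 0 := by rw [P.S.act_qf hk0, hx0]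
  have hn0 : act Q φ k0 x0 ≠ 0 := fun e => hne (inj _ _ (e.trans h00.symm))
  obtain ⟨hfix, hmov⟩ := sg_axis p0.2 (zpar_facts p0 hp0).1 _ hq0 hn0
  have key : act Q φ g v = v ∧ ∀ x, bf x v = 0 → act Q φ g x = x ∨ act Q φ g x = x + v := by
    rcases hv with ⟨hf, rfl⟩ | ⟨hf, rfl⟩
    · refine ⟨hf, fun x hx => ?_⟩
      rcases hfix (by rw [← hact, hf]) (act Q φ k0 x) (by rw [P.S.act_bf hk0, hx]) with e | e
      · exact Or.inl (inj _ _ ((hact x).trans e))
      · exact Or.inr (inj _ _ ((hact x).trans (e.trans (P.S.act_add hk0 _ _).symm)))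
    · refine ⟨?_, fun x hx => ?_⟩
      · rw [P.S.act_add hgz, ← P.S.act_mul hgz hgz, hgg, P.S.act_of_mem (one_mem Q), add_comm]
      · have hne' : sgl e1 (emb p0.2) (act Q φ k0 x0) ≠ act Q φ k0 x0 := fun e =>
          hf (inj _ _ ((hact x0).trans e))
        have hbx : bf (act Q φ k0 x) (sgl e1 (emb p0.2) (act Q φ k0 x0) + act Q φ k0 x0) = 0 := by
          rw [← hact, ← P.S.act_add hk0, P.S.act_bf hk0, hx]
        rcases hmov hne' _ hbx with e | e
        · exact Or.inl (inj _ _ ((hact x).trans e))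
        · refine Or.inr (inj _ _ ((hact x).trans (e.trans ?_)))
          rw [← hact, ← P.S.act_add hk0, ← P.S.act_add hk0]
  obtain ⟨p, hp⟩ := exists_frame P hgz hgg hgQ key.1 key.2 hk hkv
  refine ⟨p, hp, zpar_of P C hp (hg.trans (isConj_iff.2 ⟨k, rfl⟩)) fun e => hgQ ?_⟩
  simpa [mul_assoc] using P.S.norm (inv_comm_z hk) e

theorem act_perp_self (x : V) : bf x (act Q φ g x) = 0 := by
  obtain ⟨k0, p0, hk0, -, hp0, hact⟩ := exists_std_frame P C hg hgz hgQ
  rw [← P.S.act_bf hk0, hact]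
  exact (sg_rad _ (zpar_facts p0 hp0).1 _).2.1

theorem exists_line : ∃ a b : V, qf a = 0 ∧ qf b = 0 ∧ bf a b = 0 ∧
    ∀ x, act Q φ g x = sgl a b x := by
  obtain ⟨k, p, hk, -, hp, hact⟩ := exists_std_frame P C hg hgz hgQ
  have hki := inv_comm_z hk
  have hb : ∀ w : W, bf e1 (emb w) = 0 ∧ qf (emb w) = qW w := fun w =>
    ⟨by rw [bf_symm]; exact emb_perp w, rfl⟩
  refine ⟨act Q φ k⁻¹ e1, act Q φ k⁻¹ (emb p.2), by rw [P.S.act_qf hki]; exact base_facts.1,
    by rw [P.S.act_qf hki, (hb _).2, (zpar_facts p hp).1],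
    by rw [P.S.act_bf hki, (hb _).1], fun x => ?_⟩
  have e := congrArg (act Q φ k⁻¹) (hact x)
  rw [P.S.act_inv_left hk] at e
  rw [e]
  unfold sgl
  rw [P.S.act_add hki, P.S.act_add hki, additive_sm (P.S.act_add hki),
    additive_sm (P.S.act_add hki), P.S.act_inv_left hk,
    ← P.S.act_bf hk x (act Q φ k⁻¹ e1), ← P.S.act_bf hk x (act Q φ k⁻¹ (emb p.2)),
    P.S.act_inv_right hk, P.S.act_inv_right hk]

end Outer

theorem t_act (x : V) : act Q φ t x = rad0 x := by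
  obtain ⟨a₀, ha, b₀, hb, hau, hbz, rfl, hv, hw⟩ := exists_rep P C.par
  exact P.std_act ha hau hb hbz hv hw x

theorem t_notMem : t ∉ Q := fun h => absurd ((mem_Q_iff P C.par).1 h) (by decide +kernel)

/-- An involution moving `e1` does not commute with the standard one modulo `Q`. -/
theorem not_comm_act {g : G} (hgz : g * z = z * g) (hgg : g * g = 1) (hne : act Q φ g e1 ≠ e1) :
    ¬ ∀ x, act Q φ g (rad0 x) = rad0 (act Q φ g x) := by
  intro hc
  have hinv : ∀ x, act Q φ g (act Q φ g x) = x := fun x => by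
    rw [← P.S.act_mul hgz hgz, hgg, P.S.act_of_mem (one_mem Q)]
  have h00 : act Q φ g 0 = 0 := by
    have h := P.S.act_add hgz 0 0
    rw [add_zero] at h
    exact left_eq_add.1 h
  obtain ⟨y, hy, hy0, hyv⟩ := rad0_only (act Q φ g e1) (by rw [P.S.act_qf hgz]; exact base_facts.1)
    (fun e => base_facts.2.2.2.2.2.2.2.2.2.2.1 (by rw [← hinv e1, e, h00])) hne
  have hyp : bf (act Q φ g y) e1 = 0 := by rw [← P.S.act_bf hgz, hinv, hy]
  have h := hc (act Q φ g y)
  rw [hinv, rad0_perp _ hyp, P.S.act_add hgz, hinv, additive_sm (P.S.act_add hgz)] at h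
  rw [← h] at hy0 hyv
  rcases z2_cases' (bf (act Q φ g y) w0) with e | e <;> rw [e] at hy0 hyv
  · exact hy0 (by simp [sm, v_self])
  · exact hyv (by rw [sm, if_pos rfl, add_comm, ← add_assoc, v_self, zero_add])

end CfsgLib.InvChar.SuzOrder
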