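import Cfsg.Agent.Lib.InvChar.SuzOrder.CountZ
import Cfsg.Agent.Lib.InvChar.SuzT.LFields

/-!
# The contribution of an involution of the second class to the order formula

`C(t)` has order 161280 and contains 315 conjugates of `z`; there are 193 conjugates `v` of `t`
with `t` a power of `z * v`.
-/

set_option autoImplicit false
set_option linter.unusedSectionVars false

namespace CfsgLib.InvChar.SuzOrder

open Subgroup SuzType SuzT

set_option synthInstance.maxSize 4096 in
theorem tg_count : Fintype.card {p : W × W // InC p ∧ TP p ∧ IP p} = 7 ∧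
    ∀ p : W × W, InC p → TP p → IP p →
      Fintype.card {q : W × W // InC q ∧ TP q ∧ IP q ∧ sqv (p + q) = (1, 0)} =
        if p = 0 then 0 else 1 := by
  decide +kernel

variable {G : Type*} [Group G] [Finite G]

theorem ncard_orbit (H : Subgroup G) (a : G) :
    {x : G | ∃ h ∈ H, h * a * h⁻¹ = x}.ncard *
      Nat.card ↥(H ⊓ centralizer ({a} : Set G) : Subgroup G) = Nat.card H := by
  classical
  let S : Subgroup H := (H ⊓ centralizer ({a} : Set G)).subgroupOf H
  have hS : ∀ x y : H, x⁻¹ * y ∈ S ↔ (x : G) * a * (x : G)⁻¹ = (y : G) * a * (y : G)⁻¹ := by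
    intro x y
    show ((x⁻¹ * y : H) : G) ∈ H ⊓ centralizer ({a} : Set G) ↔ _
    rw [mem_inf, mem_centralizer_singleton_iff, and_iff_right (x⁻¹ * y).2]
    simp only [Subgroup.coe_mul, InvMemClass.coe_inv]
    constructor <;> intro h
    · calc (x : G) * a * (x : G)⁻¹ = x * (a * ((x : G)⁻¹ * y)) * (y : G)⁻¹ := by group
        _ = x * ((x : G)⁻¹ * y * a) * (y : G)⁻¹ := by rw [h]
        _ = _ := by group
    · calc (x : G)⁻¹ * y * a = (x : G)⁻¹ * ((y : G) * a * (y : G)⁻¹) * y := by group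
        _ = (x : G)⁻¹ * ((x : G) * a * (x : G)⁻¹) * y := by rw [h]
        _ = _ := by group
  let f : H ⧸ S → {x : G | ∃ h ∈ H, h * a * h⁻¹ = x} :=
    Quotient.lift (fun x : H => ⟨(x : G) * a * (x : G)⁻¹, x, x.2, rfl⟩) fun x y h =>
      Subtype.ext ((hS x y).1 (QuotientGroup.leftRel_apply.1 h))
  have hf : Function.Bijective f := by
    refine ⟨fun p q => ?_, ?_⟩
    · induction p using Quotient.inductionOn with | _ x => ?_
      induction q using Quotient.inductionOn with | _ y => ?_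
      intro h
      exact Quotient.sound (QuotientGroup.leftRel_apply.2 ((hS x y).2 (congrArg Subtype.val h)))
    · rintro ⟨_, h, hh, rfl⟩
      exact ⟨Quotient.mk'' ⟨h, hh⟩, rfl⟩
  rw [← Nat.card_coe_set_eq, ← Nat.card_congr (Equiv.ofBijective f hf),
    ← Nat.card_congr (subgroupOfEquivOfLe (show H ⊓ centralizer ({a} : Set G) ≤ H from inf_le_left)).toEquiv]
  exact (card_eq_card_quotient_mul_card_subgroup S).symm

variable {z u : G} {Q Q' : Subgroup G} {φ φ' : G → V} (P : Pair z u Q Q' φ φ') {t : G} (C : Ctx P t)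
include P C

theorem conj_z_in_cz {x : G} (hx : IsConj t x) (hxz : x * z = z * x) :
    ∃ h : G, h * z = z * h ∧ h * t * h⁻¹ = x := by
  obtain ⟨g, rfl⟩ := isConj_iff.1 hx
  obtain ⟨k, hkt, hk⟩ := conj_in_K P C (a := g⁻¹ * z * g) (isConj_iff.2 ⟨g, by group⟩) (by
    calc g⁻¹ * z * g * t = g⁻¹ * (z * (g * t * g⁻¹)) * g := by group
      _ = g⁻¹ * (g * t * g⁻¹ * z) * g := by rw [hxz]
      _ = t * (g⁻¹ * z * g) := by group)
  refine ⟨g * k⁻¹, ?_, ?_⟩
  · calc g * k⁻¹ * z = g * k⁻¹ * (k * (g⁻¹ * z * g) * k⁻¹) := by rw [hk]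
      _ = z * (g * k⁻¹) := by group
  · calc g * k⁻¹ * t * (g * k⁻¹)⁻¹ = g * (k⁻¹ * (t * k)) * g⁻¹ := by group
      _ = g * (k⁻¹ * (k * t)) * g⁻¹ := by rw [hkt]
      _ = g * t * g⁻¹ := by group

/-- The conjugates of `t` centralising `z`. -/
theorem ncard_t_cz : {x : G | IsConj t x ∧ x * z = z * x}.ncard = 6480 := by
  have h := ncard_orbit (centralizer ({z} : Set G)) t
  have e : {x : G | ∃ h ∈ centralizer ({z} : Set G), h * t * h⁻¹ = x} =
      {x : G | IsConj t x ∧ x * z = z * x} := by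
    ext x
    constructor
    · rintro ⟨h, hh, rfl⟩
      have hh' := mem_centralizer_singleton_iff.1 hh
      exact ⟨isConj_iff.2 ⟨h, rfl⟩, mul_comm_z (mul_comm_z hh' (t_comm_z P C)) (inv_comm_z hh')⟩
    · rintro ⟨h1, h2⟩
      obtain ⟨h, hh, e⟩ := conj_z_in_cz P C h1 h2
      exact ⟨h, mem_centralizer_singleton_iff.2 hh, e⟩
  rw [e, P.S.cardC, show centralizer ({z} : Set G) ⊓ centralizer ({t} : Set G) = Xg z t from rfl,
    card_X P C] at h
  omega

variable {E L : Subgroup G} {σ o : G} (M : Mid P t E σ o) (D : Comp P t E L)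
include M D

theorem card_ct : Nat.card ↥(centralizer ({t} : Set G)) = 161280 := by
  have h := ((centralizer (E : Set G)).subgroupOf (centralizer ({t} : Set G))).card_mul_index
  rw [Nat.card_congr (subgroupOfEquivOfLe M.half.le).toEquiv,
    show ((centralizer (E : Set G)).subgroupOf (centralizer ({t} : Set G))).index = 2 from M.half.idx,
    card_half P C M D, card_L P C M D] at h
  omega

theorem mem_L_of_z_class {a : G} (ha : IsConj z a) (hat : a * t = t * a) : a ∈ L := by
  obtain ⟨k, hk, hkz⟩ := conj_in_half P C M.half ha.symm hat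
  refine D.zclass a ha.symm ?_
  have hz : z ∈ centralizer (E : Set G) := D.L_le (z_mem_L P C M D)
  rw [show a = k⁻¹ * z * k by rw [← hkz]; group]
  exact mul_mem (mul_mem (inv_mem hk) hz) hk

theorem invol_L_eq :
    {x : G | x ∈ L ∧ x * x = 1 ∧ x ≠ 1} = {x : G | IsConj z x ∧ x * t = t * x} := by
  ext x
  constructor
  · rintro ⟨h1, h2, h3⟩
    exact ⟨(L_class P C M D h1 h2 h3).symm, L_comm_t P C M D h1⟩
  · rintro ⟨h1, h2⟩
    obtain ⟨h3, h4⟩ := invol_of_isConj P.S.zz P.S.zne h1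
    exact ⟨mem_L_of_z_class P C M D h1 h2, h3, h4⟩

/-- The conjugates of `z` centralising `t`. -/
theorem ncard_z_ct : {x : G | IsConj z x ∧ x * t = t * x}.ncard = 315 := by
  have h := ncard_orbit (centralizer ({t} : Set G)) z
  have hzt := t_comm_z P C
  have e : {x : G | ∃ h ∈ centralizer ({t} : Set G), h * z * h⁻¹ = x} =
      {x : G | IsConj z x ∧ x * t = t * x} := by
    ext x
    constructor
    · rintro ⟨h, hh, rfl⟩
      have hh' := mem_centralizer_singleton_iff.1 hh
      exact ⟨isConj_iff.2 ⟨h, rfl⟩, mul_comm_z (mul_comm_z hh' hzt.symm) (inv_comm_z hh')⟩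
    · rintro ⟨h1, h2⟩
      obtain ⟨k, hk, hkz⟩ := conj_in_K P C h1.symm h2
      exact ⟨k⁻¹, inv_mem (mem_centralizer_singleton_iff.2 hk), by rw [← hkz]; group⟩
  rw [e, card_ct P C M D, show centralizer ({t} : Set G) ⊓ centralizer ({z} : Set G) = Xg z t from
    inf_comm _ _, card_X P C] at h
  omega

theorem mem_TG_invol {x : G} :
    (x ∈ L ∧ x * x = 1 ∧ x * z = z * x) ↔
      ∃ p, HasPar P x p ∧ (InC p ∧ TP p ∧ IP p) := by
  constructor
  · rintro ⟨h1, h2, h3⟩
    obtain ⟨p, hp, hC, hT⟩ := cent_z P C M D h1 h3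
    exact ⟨p, hp, hC, hT, (sq_eq_one_iff P C hp).1 h2⟩
  · rintro ⟨p, hp, hC, hT, hI⟩
    exact ⟨D.T_le ⟨p, hp, hC, hT⟩, (sq_eq_one_iff P C hp).2 hI, HasPar.comm_z P hp⟩

theorem TG_pow_four {g : G} (hg : g ∈ TG P) : g * g * (g * g) = 1 := by
  obtain ⟨p, hp, -⟩ := hg
  rw [sq_val P hp, ← P.cz_add, z2_self, z2_self, P.cz_zero]

/-- In `L` a product of two involutions of even order has order two or four. -/
theorem pow_four_of_even {a b : G} (ha : a ∈ L) (hb : b ∈ L) (he : Even (orderOf (a * b))) :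
    a * b * (a * b) * (a * b * (a * b)) = 1 := by
  obtain ⟨g, hg⟩ : ∃ g, g = a * b := ⟨_, rfl⟩
  rw [← hg] at he ⊢
  have hgL : g ∈ L := hg ▸ mul_mem ha hb
  obtain ⟨n, hn⟩ := he
  have hn0 : orderOf g ≠ 0 := (orderOf_pos g).ne'
  obtain ⟨w, hw⟩ : ∃ w, w = g ^ n := ⟨_, rfl⟩
  have hww : w * w = 1 := by rw [hw, ← pow_add, ← hn, pow_orderOf_eq_one]
  have hw1 : w ≠ 1 := fun e => by
    have := Nat.le_of_dvd (by omega) (orderOf_dvd_of_pow_eq_one (hw ▸ e))
    omega
  have hwL : w ∈ L := hw ▸ pow_mem hgL n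
  obtain ⟨l, hl, hlw⟩ := conj_in_L P C M D hwL (L_class P C M D hwL hww hw1)
  have hT : l * g * l⁻¹ ∈ TG P := cent_z P C M D (mul_mem (mul_mem hl hgL) (inv_mem hl)) (by
    have hc : g * w = w * g := by rw [hw, ← pow_succ', ← pow_succ]
    rw [← hlw, show l * g * l⁻¹ * (l * w * l⁻¹) = l * (g * w) * l⁻¹ by group, hc]
    group)
  have h := TG_pow_four P C M D hT
  rw [show l * g * l⁻¹ * (l * g * l⁻¹) * (l * g * l⁻¹ * (l * g * l⁻¹)) =
    l * (g * g * (g * g)) * l⁻¹ by group] at h
  exact conj_eq_one_iff.1 h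

/-- The pairs in `L` at the involution. -/
theorem ncard_four : {x : G | (x ∈ L ∧ x * x = 1 ∧ x ≠ 1) ∧ z * x * (z * x) ≠ 1 ∧
    z * x * (z * x) * (z * x * (z * x)) = 1}.ncard = 96 := by
  classical
  have := Fintype.ofFinite G
  obtain ⟨h7, hq⟩ := tg_count
  let I : Finset G := Finset.univ.filter fun x => x ∈ L ∧ x * x = 1 ∧ x ≠ 1
  have hI : I.card = 315 := by
    rw [← Set.ncard_coe_finset, show (I : Set G) = {x | x ∈ L ∧ x * x = 1 ∧ x ≠ 1} by ext; simp [I],
      invol_L_eq P C M D, ncard_z_ct P C M D]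
  let F : G → Finset G := fun a =>
    I.filter fun x => a * x * (a * x) ≠ 1 ∧ a * x * (a * x) * (a * x * (a * x)) = 1
  let R : G → Finset (G × G) := fun b => (I ×ˢ I).filter fun q => q.1 * q.2 * (q.1 * q.2) = b
  have mI : ∀ {x : G}, x ∈ I ↔ x ∈ L ∧ x * x = 1 ∧ x ≠ 1 := by intro x; simp [I]
  have hconj : ∀ l ∈ L, ∀ x, x ∈ I → l * x * l⁻¹ ∈ I := fun l hl x hx => by
    obtain ⟨h1, h2, h3⟩ := mI.1 hx
    refine mI.2 ⟨mul_mem (mul_mem hl h1) (inv_mem hl), ?_, fun e => h3 (conj_eq_one_iff.1 e)⟩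
    rw [show l * x * l⁻¹ * (l * x * l⁻¹) = l * (x * x) * l⁻¹ by group, h2]; group
  have hFc : ∀ a ∈ I, (F a).card = (F z).card := by
    intro a ha
    obtain ⟨h1, h2, h3⟩ := mI.1 ha
    obtain ⟨l, hl, hla⟩ := conj_in_L P C M D h1 (L_class P C M D h1 h2 h3)
    refine Finset.card_bij (fun x _ => l * x * l⁻¹) ?_ (fun x _ y _ e => mul_left_cancel (mul_right_cancel e)) ?_
    · intro x hx
      obtain ⟨hxI, hxa, hxb⟩ := Finset.mem_filter.1 hx
      refine Finset.mem_filter.2 ⟨hconj l hl x hxI, ?_⟩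
      rw [← hla, show l * a * l⁻¹ * (l * x * l⁻¹) = l * (a * x) * l⁻¹ by group,
        show l * (a * x) * l⁻¹ * (l * (a * x) * l⁻¹) = l * (a * x * (a * x)) * l⁻¹ by group,
        show l * (a * x * (a * x)) * l⁻¹ * (l * (a * x * (a * x)) * l⁻¹) =
          l * (a * x * (a * x) * (a * x * (a * x))) * l⁻¹ by group, hxb]
      exact ⟨fun e => hxa (conj_eq_one_iff.1 e), by group⟩
    · intro y hy
      obtain ⟨hyI, hya, hyb⟩ := Finset.mem_filter.1 hy
      have hax : a * (l⁻¹ * y * l) = l⁻¹ * (z * y) * l := by rw [← hla]; group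
      refine ⟨l⁻¹ * y * l, Finset.mem_filter.2 ⟨by simpa using hconj l⁻¹ (inv_mem hl) y hyI, ?_⟩, by group⟩
      rw [hax, show l⁻¹ * (z * y) * l * (l⁻¹ * (z * y) * l) = l⁻¹ * (z * y * (z * y)) * l by group,
        show l⁻¹ * (z * y * (z * y)) * l * (l⁻¹ * (z * y * (z * y)) * l) =
          l⁻¹ * (z * y * (z * y) * (z * y * (z * y))) * l by group, hyb]
      refine ⟨fun e => hya ?_, by group⟩
      calc z * y * (z * y) = l * (l⁻¹ * (z * y * (z * y)) * l) * l⁻¹ := by group
        _ = 1 := by rw [e]; group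
  have hRc : ∀ b ∈ I, (R b).card = (R z).card := by
    intro b hb
    obtain ⟨h1, h2, h3⟩ := mI.1 hb
    obtain ⟨l, hl, hlb⟩ := conj_in_L P C M D h1 (L_class P C M D h1 h2 h3)
    refine Finset.card_bij (fun q _ => (l * q.1 * l⁻¹, l * q.2 * l⁻¹)) ?_
      (fun x _ y _ e => Prod.ext (mul_left_cancel (mul_right_cancel (congrArg Prod.fst e)))
        (mul_left_cancel (mul_right_cancel (congrArg Prod.snd e)))) ?_
    · rintro ⟨x, y⟩ hq
      obtain ⟨hxy, e⟩ := Finset.mem_filter.1 hq
      obtain ⟨hx, hy⟩ := Finset.mem_product.1 hxy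
      refine Finset.mem_filter.2 ⟨Finset.mem_product.2 ⟨hconj l hl x hx, hconj l hl y hy⟩, ?_⟩
      show l * x * l⁻¹ * (l * y * l⁻¹) * (l * x * l⁻¹ * (l * y * l⁻¹)) = z
      rw [← hlb, ← e]; group
    · rintro ⟨x, y⟩ hq
      obtain ⟨hxy, e⟩ := Finset.mem_filter.1 hq
      obtain ⟨hx, hy⟩ := Finset.mem_product.1 hxy
      refine ⟨(l⁻¹ * x * l, l⁻¹ * y * l), Finset.mem_filter.2 ⟨Finset.mem_product.2
        ⟨by simpa using hconj l⁻¹ (inv_mem hl) x hx, by simpa using hconj l⁻¹ (inv_mem hl) y hy⟩, ?_⟩,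
        Prod.ext (show l * (l⁻¹ * x * l) * l⁻¹ = x by group)
          (show l * (l⁻¹ * y * l) * l⁻¹ = y by group)⟩
      show l⁻¹ * x * l * (l⁻¹ * y * l) * (l⁻¹ * x * l * (l⁻¹ * y * l)) = b
      calc l⁻¹ * x * l * (l⁻¹ * y * l) * (l⁻¹ * x * l * (l⁻¹ * y * l))
          = l⁻¹ * (x * y * (x * y)) * l := by group
        _ = b := by rw [e, ← hlb]; group
  -- the pairs squaring to `z`
  let J : Finset G := Finset.univ.filter fun x => ∃ p, HasPar P x p ∧ (InC p ∧ TP p ∧ IP p) ∧ p ≠ 0
  have hJ : J.card = 24 := by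
    have h := ncard_par P (fun p => (InC p ∧ TP p ∧ IP p) ∧ p ≠ 0)
    rw [← Set.ncard_coe_finset, show (J : Set G) =
      {x | ∃ p, HasPar P x p ∧ (InC p ∧ TP p ∧ IP p) ∧ p ≠ 0} by ext; simp [J], h,
      show Fintype.card {p : W × W // (InC p ∧ TP p ∧ IP p) ∧ p ≠ 0} = 6 by decide +kernel]
  have hzI : z ∈ L := z_mem_L P C M D
  have hRz : (R z).card = 96 := by
    rw [Finset.card_eq_sum_card_fiberwise (f := Prod.fst) (t := J) ?_]
    · rw [Finset.sum_congr rfl (g := fun _ => 4) ?_, Finset.sum_const, hJ]; rfl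
      intro x hx
      obtain ⟨p, hp, hS, hp0⟩ := (Finset.mem_filter.1 hx).2
      obtain ⟨hxL, hxx, hxz⟩ := (mem_TG_invol P C M D).2 ⟨p, hp, hS⟩
      have hx1 : x ≠ 1 := fun e => hp0 (HasPar.ext_par P hp (e ▸ HasPar.one P))
      have hf : ((R z).filter fun q => q.1 = x).card =
          {y : G | ∃ q, HasPar P y q ∧ (InC q ∧ TP q ∧ IP q ∧ sqv (p + q) = (1, 0))}.ncard := by
        rw [← Set.ncard_coe_finset]
        refine Eq.trans ?_ (Set.ncard_image_of_injective _ (Prod.mk_right_injective x))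
        congr 1
        ext ⟨a, y⟩
        simp only [Finset.coe_filter, R, Finset.mem_filter, Finset.mem_product, Set.mem_setOf_eq,
          Set.mem_image, Prod.mk.injEq]
        constructor
        · rintro ⟨⟨⟨-, hy⟩, e⟩, rfl⟩
          obtain ⟨hyL, hyy, hy1⟩ := mI.1 hy
          have hyz : y * z = z * y := by
            have hxi : a * z * a = a * a * z := by rw [mul_assoc, ← hxz, ← mul_assoc]
            rw [hxx, one_mul] at hxi
            have h1 : y * z * y = z := by
              calc y * z * y = y * (a * y * (a * y)) * y := by rw [e]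
                _ = y * a * (y * a) * (y * y) := by group
                _ = (a * y * (a * y))⁻¹ := by
                  rw [hyy, mul_one, mul_inv_rev, mul_inv_rev, inv_eq_of_mul_eq_one_right hxx,
                    inv_eq_of_mul_eq_one_right hyy]
                _ = z := by rw [e, P.S.zinv]
            calc y * z = y * z * (y * y) := by rw [hyy, mul_one]
              _ = y * z * y * y := by group
              _ = z * y := by rw [h1]
          obtain ⟨q, hq1, hC, hT, hI⟩ := (mem_TG_invol P C M D).1 ⟨hyL, hyy, hyz⟩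
          refine ⟨y, ⟨q, hq1, hC, hT, hI, ?_⟩, rfl, rfl⟩
          have h2 := sq_val P (HasPar.mul P hp hq1)
          rw [e] at h2
          have h3 : P.cz ((sqv (p + q)).1 + 1) ((sqv (p + q)).2 + 0) = 1 := by
            rw [P.cz_add, ← h2, show P.cz 1 0 = z by simp [Pair.cz, zp_zero, zp_one], P.S.zz]
          obtain ⟨c, d⟩ := P.cz_eq_one h3
          exact Prod.ext (CharTwo.add_eq_zero.1 c) (by simpa using d)
        · rintro ⟨y', ⟨q, hq1, hC, hT, hI, hs⟩, rfl, rfl⟩
          obtain ⟨hyL, hyy, -⟩ := (mem_TG_invol P C M D).2 ⟨q, hq1, hC, hT, hI⟩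
          have hxy : x * y' * (x * y') = z := by
            rw [sq_val P (HasPar.mul P hp hq1), hs]
            simp [Pair.cz, zp_zero, zp_one]
          refine ⟨⟨⟨mI.2 ⟨hxL, hxx, hx1⟩, mI.2 ⟨hyL, hyy, fun e => ?_⟩⟩, hxy⟩, rfl⟩
          rw [e, mul_one, hxx] at hxy
          exact P.S.zne hxy.symm
      rw [hf, ncard_par P, hq p hS.1 hS.2.1 hS.2.2, if_neg hp0]
    · rintro ⟨a, y⟩ hq'
      obtain ⟨hxy, e⟩ := Finset.mem_filter.1 hq'
      obtain ⟨ha, hy⟩ := Finset.mem_product.1 hxy
      obtain ⟨haL, haa, ha1⟩ := mI.1 ha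
      obtain ⟨hyL, hyy, -⟩ := mI.1 hy
      have hai : a⁻¹ = a := inv_eq_of_mul_eq_one_right haa
      have haz : a * z = z * a := by
        have h1 : a * z * a = z := by
          calc a * z * a = a * (a * y * (a * y)) * a := by rw [show a * y * (a * y) = z from e]
            _ = a * a * (y * a * (y * a)) := by group
            _ = (a * y * (a * y))⁻¹ := by
              rw [haa, one_mul, mul_inv_rev, mul_inv_rev, hai, inv_eq_of_mul_eq_one_right hyy]
            _ = z := by rw [show a * y * (a * y) = z from e, P.S.zinv]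
        calc a * z = a * z * (a * a) := by rw [haa, mul_one]
          _ = a * z * a * a := by group
          _ = z * a := by rw [h1]
      obtain ⟨p, hp, hS⟩ := (mem_TG_invol P C M D).1 ⟨haL, haa, haz⟩
      refine Finset.mem_coe.2 (Finset.mem_filter.2 ⟨Finset.mem_univ _, p, hp, hS, fun h0 => ?_⟩)
      obtain ⟨q, hq1, hC, hT, hI⟩ := (mem_TG_invol P C M D).1 ⟨hyL, hyy, by
        have h1 : y * (a * y * (a * y)) = y * a * (y * a) * y := by group
        have h2 : y * a * (y * a) = z := by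
          rw [← P.S.zinv, ← show a * y * (a * y) = z from e, mul_inv_rev, mul_inv_rev, hai,
            inv_eq_of_mul_eq_one_right hyy]
        rwa [show a * y * (a * y) = z from e, h2] at h1⟩
      have h2 := sq_val P (HasPar.mul P hp hq1)
      rw [show a * y * (a * y) = z from e, h0, zero_add] at h2
      rw [← sq_val P hq1, hyy] at h2
      exact P.S.zne h2
  -- double counting
  have htot : ((I ×ˢ I).filter fun q => q.1 * q.2 * (q.1 * q.2) ≠ 1 ∧
      q.1 * q.2 * (q.1 * q.2) * (q.1 * q.2 * (q.1 * q.2)) = 1).card = 315 * (F z).card := by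
    rw [Finset.card_eq_sum_card_fiberwise (f := Prod.fst) (t := I)
      (fun q hq => (Finset.mem_product.1 (Finset.mem_filter.1 hq).1).1),
      Finset.sum_congr rfl (g := fun _ => (F z).card) fun a ha => ?_, Finset.sum_const, hI, smul_eq_mul]
    rw [← hFc a ha]
    refine Finset.card_bij (fun q _ => q.2) ?_ ?_ ?_
    · rintro ⟨x, y⟩ hq
      simp only [Finset.mem_filter, Finset.mem_product] at hq
      obtain ⟨⟨⟨-, hy⟩, h⟩, rfl⟩ := hq
      exact Finset.mem_filter.2 ⟨hy, h⟩
    · intro x hx y hy e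
      exact Prod.ext ((Finset.mem_filter.1 hx).2.trans (Finset.mem_filter.1 hy).2.symm) e
    · intro y hy
      obtain ⟨hyI, h⟩ := Finset.mem_filter.1 hy
      exact ⟨(a, y), by simp [ha, hyI, h.1, h.2], rfl⟩
  have htot' : ((I ×ˢ I).filter fun q => q.1 * q.2 * (q.1 * q.2) ≠ 1 ∧
      q.1 * q.2 * (q.1 * q.2) * (q.1 * q.2 * (q.1 * q.2)) = 1).card = 315 * 96 := by
    rw [Finset.card_eq_sum_card_fiberwise (f := fun q => q.1 * q.2 * (q.1 * q.2)) (t := I) (fun q hq => by
      obtain ⟨hq1, h1, h2⟩ := Finset.mem_filter.1 hq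
      obtain ⟨ha, hb⟩ := Finset.mem_product.1 hq1
      have hab := mul_mem (mI.1 ha).1 (mI.1 hb).1
      exact mI.2 ⟨mul_mem hab hab, h2, h1⟩),
      Finset.sum_congr rfl (g := fun _ => 96) fun b hb => ?_, Finset.sum_const, hI, smul_eq_mul]
    rw [← hRz, ← hRc b hb]
    congr 1
    ext ⟨x, y⟩
    simp only [Finset.mem_filter, R]
    constructor
    · rintro ⟨⟨h1, -⟩, h3⟩; exact ⟨h1, h3⟩
    · rintro ⟨h1, h3⟩
      exact ⟨⟨h1, h3 ▸ (mI.1 hb).2.2, h3 ▸ (mI.1 hb).2.1⟩, h3⟩
  rw [← show (F z : Set G) = {x : G | (x ∈ L ∧ x * x = 1 ∧ x ≠ 1) ∧ z * x * (z * x) ≠ 1 ∧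
    z * x * (z * x) * (z * x * (z * x)) = 1} by ext; simp [F, I], Set.ncard_coe_finset]
  omega

theorem ncard_odd : {l : G | l ∈ L ∧ l * l = 1 ∧ Odd (orderOf (z * l))}.ncard = 193 := by
  classical
  have hzL := z_mem_L P C M D
  let A : Set G := {l | l ∈ L ∧ l * l = 1}
  let B2 : Set G := {l | l ∈ L ∧ l * l = 1 ∧ l * z = z * l} \ {z}
  let B4 : Set G := {x | (x ∈ L ∧ x * x = 1 ∧ x ≠ 1) ∧ z * x * (z * x) ≠ 1 ∧
    z * x * (z * x) * (z * x * (z * x)) = 1}
  have hA : A.ncard = 316 := by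
    rw [show A = insert 1 {x | x ∈ L ∧ x * x = 1 ∧ x ≠ 1} from Set.ext fun x =>
      ⟨fun h => if e : x = 1 then Or.inl e else Or.inr ⟨h.1, h.2, e⟩,
        fun h => h.elim (fun e => e ▸ ⟨one_mem _, one_mul _⟩) fun h => ⟨h.1, h.2.1⟩⟩,
      Set.ncard_insert_of_notMem (fun h => h.2.2 rfl), invol_L_eq P C M D, ncard_z_ct P C M D]
  have hB2 : B2.ncard = 27 := by
    have e : {l | l ∈ L ∧ l * l = 1 ∧ l * z = z * l} =
        {g | ∃ p, HasPar P g p ∧ (InC p ∧ TP p ∧ IP p)} := Set.ext fun x => mem_TG_invol P C M D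
    rw [Set.ncard_diff_singleton_of_mem (show z ∈ {l | l ∈ L ∧ l * l = 1 ∧ l * z = z * l} from
      ⟨hzL, P.S.zz, rfl⟩), e, ncard_par P, tg_count.1]
  have hsplit : A = {l | l ∈ L ∧ l * l = 1 ∧ Odd (orderOf (z * l))} ∪ (B2 ∪ B4) := by
    ext x
    constructor
    · rintro ⟨h1, h2⟩
      rcases Nat.even_or_odd (orderOf (z * x)) with he | ho
      · refine Or.inr ?_
        by_cases hc : z * x * (z * x) = 1
        · refine Or.inl ⟨⟨h1, h2, ?_⟩, fun e => ?_⟩
          · calc x * z = (x * z) * (z * x * (z * x)) := by rw [hc, mul_one]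
              _ = x * (z * z) * x * z * x := by group
              _ = z * x := by rw [P.S.zz, mul_one, h2, one_mul]
          · rw [Set.mem_singleton_iff] at e
            rw [e, P.S.zz, orderOf_one] at he
            exact absurd he (by decide)
        · exact Or.inr ⟨⟨h1, h2, fun e => hc (by rw [e, mul_one, P.S.zz])⟩, hc,
            pow_four_of_even P C M D hzL h1 he⟩
      · exact Or.inl ⟨h1, h2, ho⟩
    · rintro (h | h | h)
      exacts [⟨h.1, h.2.1⟩, ⟨h.1.1, h.1.2.1⟩, ⟨h.1.1, h.1.2.1⟩]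
  have hd1 : Disjoint B2 B4 := Set.disjoint_left.2 fun x hx hx' => hx'.2.1 (by
    rw [show z * x * (z * x) = z * (x * z) * x by group, hx.1.2.2, ← mul_assoc, P.S.zz, one_mul,
      hx.1.2.1])
  have hd2 : Disjoint {l | l ∈ L ∧ l * l = 1 ∧ Odd (orderOf (z * l))} (B2 ∪ B4) :=
    Set.disjoint_left.2 fun x ⟨h1, h2, ho⟩ hx => by
      have one_of : ∀ g : G, Odd (orderOf g) → g * g * (g * g) = 1 → g = 1 := fun g hg e => by
        have hd : orderOf g ∣ 2 ^ 2 := orderOf_dvd_of_pow_eq_one (by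
          rw [show 2 ^ 2 = 4 from rfl, pow_succ, pow_succ, pow_succ, pow_one, ← e]; group)
        exact orderOf_eq_one_iff.1 (Nat.eq_one_of_dvd_coprimes
          (Nat.Coprime.pow_right 2 ((Nat.coprime_two_right).2 hg)) dvd_rfl hd)
      rcases hx with hx | hx
      · have hc : z * x * (z * x) = 1 := by
          rw [show z * x * (z * x) = z * (x * z) * x by group, hx.1.2.2, ← mul_assoc, P.S.zz,
            one_mul, h2]
        exact hx.2 (Set.mem_singleton_iff.2 (by
          have h := one_of _ ho (by rw [hc, one_mul])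
          calc x = z * (z * x) := by rw [← mul_assoc, P.S.zz, one_mul]
            _ = z := by rw [h, mul_one]))
      · have h := one_of _ ho hx.2.2
        exact hx.2.1 (by rw [h, one_mul])
  have h := hA
  rw [hsplit, Set.ncard_union_eq hd2 (Set.toFinite _) (Set.toFinite _),
    Set.ncard_union_eq hd1 (Set.toFinite _) (Set.toFinite _), hB2,
    show B4.ncard = 96 from ncard_four P C M D] at h
  omega

/-- The count at the involution of the second class. -/
theorem ncard_TSet : {v : G | IsConj t v ∧ t ∈ zpowers (z * v)}.ncard = 193 := by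
  classical
  have hzL := z_mem_L P C M D
  have hzt := (t_comm_z P C).symm
  have htt := C.sq
  have key : {v : G | IsConj t v ∧ t ∈ zpowers (z * v)} =
      (fun l => t * l) '' {l : G | l ∈ L ∧ l * l = 1 ∧ Odd (orderOf (z * l))} := by
    ext v
    constructor
    · rintro ⟨hv, hmem⟩
      obtain ⟨hvv, hv1⟩ := invol_of_isConj htt (t_ne P C) hv
      obtain ⟨k, hk⟩ : ∃ k : ℕ, (z * v) ^ k = t := by
        obtain ⟨k, hk⟩ := (mem_powers_iff_mem_zpowers (x := z * v) (y := t)).2 hmem
        exact ⟨k, hk⟩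
      have hzvt : z * v * t = t * (z * v) := by
        rw [← hk]; exact ((Commute.refl _).pow_right k).eq
      have hvt : v * t = t * v := by
        calc v * t = z * (z * v * t) := by rw [← mul_assoc z (z * v), ← mul_assoc z z, P.S.zz, one_mul]
          _ = z * (t * z) * v := by rw [hzvt]; group
          _ = t * v := by rw [← hzt, ← mul_assoc, P.S.zz, one_mul]
      have hLn := L_normal P C M D hvt
      have hsq : z * v * (z * v) ∈ L := by
        have := hLn z hzL
        rw [inv_eq_of_mul_eq_one_right hvv] at this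
        rw [show z * v * (z * v) = z * (v * z * v) by group]
        exact mul_mem hzL this
      have htL : t ∉ L := fun h => t_ne P C (D.disj t M.t_mem h)
      have hkodd : Odd k := by
        refine Nat.not_even_iff_odd.1 fun ⟨j, hj⟩ => htL ?_
        rw [← hk, hj, pow_add, ← (Commute.refl (z * v)).mul_pow]
        exact pow_mem hsq j
      have hvE : v ∈ centralizer (E : Set G) := by
        obtain ⟨j, hj⟩ := hkodd
        have h2 : z * v ∈ centralizer (E : Set G) := by
          have h3 : z * v = ((z * v * (z * v)) ^ j)⁻¹ * t := by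
            rw [← hk, hj, pow_succ, pow_mul, pow_two, inv_mul_cancel_left]
          rw [h3]
          exact mul_mem (inv_mem (pow_mem (D.L_le hsq) j))
            (mem_centralizer_iff.2 fun e he => (LThreeFour.comm_of_sq M.sqE M.t_mem he).symm)
        have := mul_mem (D.L_le hzL) h2
        rwa [← mul_assoc, P.S.zz, one_mul] at this
      obtain ⟨e, he, l, hl, rfl⟩ := (D.cent_E v).1 hvE
      have hle := D.comm e he l hl
      have hll : l * l = 1 := by
        rw [show e * l * (e * l) = e * (l * e) * l by group, ← hle, ← mul_assoc, M.sqE e he, one_mul] at hvv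
        exact hvv
      have hzl : z * (e * l) = e * (z * l) := by rw [← mul_assoc, ← D.comm e he z hzL, mul_assoc]
      rw [hzl, (show Commute e (z * l) from D.comm e he _ (mul_mem hzL hl)).mul_pow] at hk
      have hek : e ^ k = e := by
        obtain ⟨j, hj⟩ := hkodd
        rw [hj, pow_succ, pow_mul, pow_two, M.sqE e he, one_pow, one_mul]
      rw [hek] at hk
      have h1 : (z * l) ^ k = 1 := D.disj _ (by
        rw [show (z * l) ^ k = e⁻¹ * t by rw [← hk, inv_mul_cancel_left]]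
        exact mul_mem (inv_mem he) M.t_mem) (pow_mem (mul_mem hzL hl) k)
      rw [h1, mul_one] at hk
      exact ⟨l, ⟨hl, hll, hkodd.of_dvd_nat (orderOf_dvd_of_pow_eq_one h1)⟩, by rw [hk]⟩
    · rintro ⟨l, ⟨hl, hll, ho⟩, rfl⟩
      have hl1 : l ≠ 1 := fun e => by
        rw [e, mul_one, orderOf_eq_prime (by rw [pow_two, P.S.zz]) P.S.zne] at ho
        exact absurd ho (by decide)
      obtain ⟨m, hm, hmz⟩ := conj_in_L P C M D hl (L_class P C M D hl hll hl1)
      have hmt : m * t = t * m := L_comm_t P C M D hm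
      have hct : IsConj t (t * z) := by
        have hC' : Ctx P (t * z) := ⟨by
          have := HasPar.mul P C.par (HasPar.of_inR P (Or.inr (Or.inl rfl) : P.InR z))
          rwa [add_zero] at this, by
          rw [show t * z * (t * z) = t * (z * t) * z by group, hzt, ← mul_assoc, htt, one_mul, P.S.zz]⟩
        rcases classes P C (order_t P hC') with h | h
        · exact absurd h.symm (t_not_z P hC')
        · exact h.symm
      refine ⟨hct.trans (isConj_iff.2 ⟨m⁻¹, ?_⟩), ?_⟩
      · calc m⁻¹ * (t * z) * m⁻¹⁻¹ = m⁻¹ * t * (m * l * m⁻¹) * m := by rw [← hmz]; group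
          _ = m⁻¹ * (t * m) * l := by group
          _ = t * l := by rw [← hmt]; group
      · have e : z * (t * l) = t * (z * l) := by rw [← mul_assoc, hzt, mul_assoc]
        show t ∈ zpowers (z * (t * l))
        rw [e]
        refine mem_zpowers_iff.2 ⟨(orderOf (z * l) : ℤ), ?_⟩
        rw [zpow_natCast, (show Commute t (z * l) from
          (L_comm_t P C M D (mul_mem hzL hl)).symm).mul_pow, pow_orderOf_eq_one, mul_one]
        obtain ⟨j, hj⟩ := ho
        rw [hj, pow_succ, pow_mul, pow_two, htt, one_pow, one_mul]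
  rw [key, Set.ncard_image_of_injective _ (mul_right_injective t), ncard_odd P C M D]

end CfsgLib.InvChar.SuzOrder
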