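import Cfsg.Agent.Lib.InvChar.SuzOrder.Axis

/-!
# The contribution of the central involution to the order formula

For the standard involution `t` of the second class there are exactly 236 conjugates `g` of `z`
centralising `z` with `z` a power of `g * t`.
-/

set_option autoImplicit false
set_option linter.unusedSectionVars false

namespace CfsgLib.InvChar.SuzOrder

open Subgroup SuzType SuzT

variable {G : Type*} [Group G] [Finite G]

/-- The conjugates of `z` paired with `t` at `z`. -/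
def BSet (z t : G) : Set G := {g | IsConj z g ∧ g * z = z * g ∧ z ∈ zpowers (g * t)}

variable {z u : G} {Q Q' : Subgroup G} {φ φ' : G → V} (P : Pair z u Q Q' φ φ')
include P

theorem ncard_par (S : W × W → Prop) [DecidablePred S] :
    {g : G | ∃ p, HasPar P g p ∧ S p}.ncard = 4 * Fintype.card {p : W × W // S p} := by
  classical
  choose e he using fun p : {p : W × W // S p} => HasPar.exists_elt P p.1
  have hp : ∀ x : {p : W × W // S p} × ZMod 2 × ZMod 2,
      HasPar P (P.cz x.2.1 x.2.2 * e x.1) x.1.1 := fun x => by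
    simpa using HasPar.mul P (HasPar.of_inR P (P.inR_cz x.2.1 x.2.2)) (he x.1)
  let F : {p : W × W // S p} × ZMod 2 × ZMod 2 → {g : G | ∃ p, HasPar P g p ∧ S p} := fun x =>
    ⟨P.cz x.2.1 x.2.2 * e x.1, x.1.1, hp x, x.1.2⟩
  have hF : Function.Bijective F := by
    refine ⟨fun x y h => ?_, fun g => ?_⟩
    · have h' : P.cz x.2.1 x.2.2 * e x.1 = P.cz y.2.1 y.2.2 * e y.1 := congrArg Subtype.val h
      have e1 : x.1 = y.1 := Subtype.ext (HasPar.ext_par P (hp x) (h' ▸ hp y))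
      rw [e1] at h'
      have e3 : P.cz (x.2.1 + y.2.1) (x.2.2 + y.2.2) = 1 := by
        rw [P.cz_add, mul_right_cancel h', ← P.cz_add, z2_self, z2_self, P.cz_zero]
      obtain ⟨a, b⟩ := P.cz_eq_one e3
      exact Prod.ext e1 (Prod.ext (CharTwo.add_eq_zero.1 a) (CharTwo.add_eq_zero.1 b))
    · obtain ⟨p, hp, hc⟩ := g.2
      obtain ⟨i, j, hij⟩ := eq_mul_cz P (he ⟨p, hc⟩) hp
      exact ⟨(⟨p, hc⟩, i, j), Subtype.ext hij.symm⟩
  rw [← Nat.card_coe_set_eq, ← Nat.card_congr (Equiv.ofBijective F hF), Nat.card_prod,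
    Nat.card_prod, Nat.card_zmod, Nat.card_eq_fintype_card]
  omega

theorem ncard_phi (S : V → Prop) [DecidablePred S] :
    {g : G | g ∈ Q ∧ S (φ g)}.ncard = 2 * Fintype.card {x : V // S x} := by
  classical
  choose e he he' using fun x : V => P.S.hsurj x
  have hz : ∀ j : ZMod 2, zp z j ∈ Q ∧ φ (zp z j) = 0 := fun j => by
    rcases z2_cases' j with rfl | rfl
    · rw [zp_zero]; exact ⟨one_mem _, P.S.phi_one⟩
    · rw [zp_one]; exact ⟨P.S.zQ, P.S.hz⟩
  have hφ : ∀ (x : V) (j : ZMod 2), φ (e x * zp z j) = x := fun x j => by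
    rw [P.S.hadd _ (he x) _ (hz j).1, (hz j).2, he', add_zero]
  let F : {x : V // S x} × ZMod 2 → {g : G | g ∈ Q ∧ S (φ g)} := fun x =>
    ⟨e x.1.1 * zp z x.2, mul_mem (he _) (hz _).1, by rw [hφ]; exact x.1.2⟩
  have hF : Function.Bijective F := by
    refine ⟨fun x y h => ?_, fun g => ?_⟩
    · have h' : e x.1.1 * zp z x.2 = e y.1.1 * zp z y.2 := congrArg Subtype.val h
      have e1 : x.1 = y.1 := Subtype.ext (by
        have := congrArg φ h'
        rwa [hφ, hφ] at this)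
      rw [e1] at h'
      refine Prod.ext e1 ?_
      have h2 := mul_left_cancel h'
      rcases z2_cases' x.2 with a | a <;> rcases z2_cases' y.2 with b | b <;>
        rw [a, b] at h2 ⊢ <;> simp only [zp_zero, zp_one] at h2
      · exact absurd h2.symm P.S.zne
      · exact absurd h2 P.S.zne
    · obtain ⟨hg, hS⟩ := g.2
      rcases P.S.phi_eq hg (he (φ g)) (he' _).symm with e1 | e1
      · exact ⟨(⟨φ g, hS⟩, 0), Subtype.ext (by simp [F, zp_zero, ← e1])⟩
      · exact ⟨(⟨φ g, hS⟩, 1), Subtype.ext (by simp [F, zp_one, ← e1])⟩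
  rw [← Nat.card_coe_set_eq, ← Nat.card_congr (Equiv.ofBijective F hF), Nat.card_prod,
    Nat.card_zmod, Nat.card_eq_fintype_card, mul_comm]

variable {t : G} (C : Ctx P t)
include C

theorem t_comm_z : t * z = z * t := HasPar.comm_z P C.par

theorem z_ne_t : z ≠ t := fun e => t_notMem P C (e ▸ P.S.zQ)

/-- The members of `Q`. -/
theorem mem_BSet_Q {g : G} (hg : g ∈ Q) : g ∈ BSet z t ↔ QCrit (φ g) := by
  have hgz := P.S.commQ hg
  have htz := t_comm_z P C
  have hq : t * g * t⁻¹ ∈ Q := P.S.norm htz hg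
  have hti : t⁻¹ = t := inv_eq_of_mul_eq_one_right C.sq
  have hsq : g * t * (g * t) = g * (t * g * t⁻¹) := by rw [hti]; group
  have hφ : φ (g * (t * g * t⁻¹)) = φ g + rad0 (φ g) := by
    rw [P.S.hadd g hg _ hq, ← P.S.act_phi htz hg, t_act P C]
  have hgt : g * t ∉ Q := fun h => t_notMem P C (by simpa using mul_mem (inv_mem hg) h)
  have hne : g * t ≠ z := fun e => hgt (e ▸ P.S.zQ)
  have hne1 : g * t ≠ 1 := fun e => hgt (e ▸ one_mem Q)
  have hp : z ∈ zpowers (g * t) → g * (t * g * t⁻¹) = z ∨ qf (φ g + rad0 (φ g)) = 1 := by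
    intro hmem
    refine (z2_cases' (qf (φ g + rad0 (φ g)))).elim (fun h0 => Or.inl ?_) Or.inr
    have hqq : g * (t * g * t⁻¹) * (g * (t * g * t⁻¹)) = 1 :=
      P.S.invol_of_sing (mul_mem hg hq) (by rw [hφ, h0])
    by_cases h1 : g * (t * g * t⁻¹) = 1
    · exact absurd (invol_unique (mem_zpowers _) (hsq.trans h1) hne1 hmem P.S.zz P.S.zne) hne
    · exact invol_unique (hsq ▸ mul_mem (mem_zpowers _) (mem_zpowers _)) hqq h1 hmem P.S.zz P.S.zne
  -- commuting with `t` for a fixed singular vector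
  have hcomm : qf (φ g) = 0 → rad0 (φ g) = φ g →
      (g * t = t * g ↔ bW (φ g).2 tp.1 = 0) := by
    intro hs hf
    obtain ⟨hp1, hp2⟩ := fixed_perp _ hs hf
    rw [comm_iff P C (par_of_mem P hg ((P.comm_u hg).2 hp1))]
    have h0 : ∀ y : W, bW y 0 = 0 ∧ bW 0 y = 0 := by unfold bW; decide +kernel
    constructor
    · intro h
      have := h.1
      rwa [show bW (φ g).2 v0.2 + bW (φ g).2 w0.2 + bW v0.2 0 = bW (φ g).2 tp.1 by
        rw [(h0 _).1, show bW (φ g).2 w0.2 = 0 from hp2]; simp [tp]] at this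
    · intro h
      refine ⟨?_, ?_⟩
      · show bW (φ g).2 v0.2 + bW (φ g).2 w0.2 + bW v0.2 0 = 0
        rw [(h0 _).1, show bW (φ g).2 w0.2 = 0 from hp2, show bW (φ g).2 v0.2 = 0 from h]; decide
      · show bW 0 w0.2 + bW (φ g).2 w0.2 + bW v0.2 0 = 0
        rw [(h0 _).1, (h0 _).2, show bW (φ g).2 w0.2 = 0 from hp2]; decide
  constructor
  · rintro ⟨hc, -, hmem⟩
    obtain ⟨hgg, hg1⟩ := invol_of_isConj P.S.zz P.S.zne hc
    have hs := P.S.sing_of_invol hg hgg
    have hx0 : φ g ≠ 0 := fun e => by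
      rcases P.S.hzero g hg e with rfl | rfl
      · exact hg1 rfl
      · have h2 : g * t * (g * t) = 1 := by
          rw [show g * t * (g * t) = g * (t * g) * t by group, htz, ← mul_assoc, P.S.zz, one_mul, C.sq]
        exact hne (invol_unique (mem_zpowers _) h2 hne1 hmem P.S.zz P.S.zne)
    refine ⟨hx0, hs, ?_⟩
    rcases hp hmem with e | e
    · refine Or.inl ?_
      have h0 : φ g + rad0 (φ g) = 0 := by rw [← hφ, e, P.S.hz]
      have hf : rad0 (φ g) = φ g := by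
        calc rad0 (φ g) = φ g + (φ g + rad0 (φ g)) := by rw [← add_assoc, v_self, zero_add]
          _ = φ g := by rw [h0, add_zero]
      refine ⟨hf, (z2_cases' _).resolve_left fun hb => P.S.zne ?_⟩
      rw [← e, ← (hcomm hs hf).2 hb, mul_assoc g t, ← mul_assoc, ← mul_assoc, mul_inv_cancel_right,
        hgg]
    · exact Or.inr e
  · rintro ⟨hx0, hs, hcr⟩
    have hgg := P.S.invol_of_sing hg hs
    have hg1 : g ≠ 1 := fun e => hx0 (e ▸ P.S.phi_one)
    refine ⟨(P.isConj_of_mem hg hgg hg1).symm, hgz, ?_⟩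
    have hmem2 : g * (t * g * t⁻¹) ∈ zpowers (g * t) :=
      hsq ▸ mul_mem (mem_zpowers _) (mem_zpowers _)
    rcases hcr with ⟨hf, hb⟩ | e
    · have h0 : φ (g * (t * g * t⁻¹)) = 0 := by rw [hφ, hf, v_self]
      rcases P.S.hzero _ (mul_mem hg hq) h0 with e | e
      · exfalso
        have hc : g * t = t * g := by
          have h1 : t * g * t⁻¹ = g := by
            rw [eq_inv_of_mul_eq_one_right e, inv_eq_of_mul_eq_one_right hgg]
          exact (mul_inv_eq_iff_eq_mul.1 h1).symm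
        rw [(hcomm hs hf).1 hc] at hb
        exact absurd hb (by decide)
      · exact e ▸ hmem2
    · have h2 := mul_mem hmem2 hmem2
      rwa [P.S.hsq _ (mul_mem hg hq), hφ, e, zp_one] at h2

/-- The members fixing `e1`. -/
theorem mem_BSet_N {g : G} (hgQ : g ∉ Q) :
    (g ∈ BSet z t ∧ act Q φ g e1 = e1) ↔ ∃ p, HasPar P g p ∧ NCrit p := by
  constructor
  · rintro ⟨⟨hc, hgz, hmem⟩, hfix⟩
    obtain ⟨p, hp, hq⟩ := axis P C hc hgz hgQ base_facts.1 base_facts.2.2.2.2.2.2.2.2.2.2.1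
      (Or.inl ⟨hfix, rfl⟩) (k := 1) (by simp) (P.S.act_of_mem (one_mem Q) e1)
    rw [one_mul, inv_one, mul_one] at hp
    refine ⟨p, hp, hq, ?_⟩
    have hgt := HasPar.mul P hp C.par
    have hsq := sq_val P hgt
    have hgt0 : g * t ≠ z ∧ g * t ≠ 1 := by
      refine ⟨fun e => ?_, fun e => ?_⟩ <;>
      · have h0 : p + tp = 0 := HasPar.ext_par P hgt (HasPar.of_inR P (e ▸ (by
          first | exact Or.inr (Or.inl rfl) | exact Or.inl rfl)))
        have hp' : p = tp := by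
          calc p = p + (tp + tp) := by rw [show tp + tp = (0 : W × W) by decide +kernel, add_zero]
            _ = tp := by rw [← add_assoc, h0, zero_add]
        exact absurd (hp' ▸ hq.2.1) (by unfold bW; decide +kernel)
    by_contra hne
    by_cases h0 : sqv (p + tp) = 0
    · rw [h0] at hsq
      exact hgt0.1 (invol_unique (mem_zpowers _) (hsq.trans P.cz_zero) hgt0.2 hmem P.S.zz P.S.zne)
    · have hm : P.cz (sqv (p + tp)).1 (sqv (p + tp)).2 ∈ zpowers (g * t) :=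
        hsq ▸ mul_mem (mem_zpowers _) (mem_zpowers _)
      have hcc : P.cz (sqv (p + tp)).1 (sqv (p + tp)).2 * P.cz (sqv (p + tp)).1 (sqv (p + tp)).2 = 1 := by
        rw [← P.cz_add, z2_self, z2_self, P.cz_zero]
      have e := invol_unique hm hcc (fun e => h0 (by
        obtain ⟨a, b⟩ := P.cz_eq_one e; exact Prod.ext a b)) hmem P.S.zz P.S.zne
      refine hne ?_
      have e2 : P.cz ((sqv (p + tp)).1 + 1) ((sqv (p + tp)).2 + 0) = 1 := by
        rw [P.cz_add, e, show P.cz 1 0 = z by simp [Pair.cz, zp_zero, zp_one], P.S.zz]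
      obtain ⟨a, b⟩ := P.cz_eq_one e2
      exact Prod.ext (CharTwo.add_eq_zero.1 a) (by simpa using b)
  · rintro ⟨p, hp, hq, hs⟩
    obtain ⟨hc, hgz, -⟩ := of_zpar P C hp hq
    refine ⟨⟨hc, hgz, ?_⟩, ?_⟩
    · have := sq_val P (HasPar.mul P hp C.par)
      rw [hs, show P.cz (1, (0 : ZMod 2)).1 (1, (0 : ZMod 2)).2 = z by
        simp [Pair.cz, zp_zero, zp_one]] at this
      exact this ▸ mul_mem (mem_zpowers _) (mem_zpowers _)
    · rw [act_par P hp (zpar_facts p hq).1]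
      exact (sg_rad _ (zpar_facts p hq).1 0).2.2.2.1

section Outer

variable {g : G} (hg : IsConj z g) (hgz : g * z = z * g) (hgQ : g ∉ Q)
  (hne : act Q φ g e1 ≠ e1)
include hg hgz hgQ hne

theorem axis_facts : qf (act Q φ g e1 + e1) = 0 ∧ bf (act Q φ g e1 + e1) e1 = 0 ∧
    (act Q φ g e1 + e1).2 ≠ 0 := by
  have hb : bf (act Q φ g e1) e1 = 0 := by
    rw [bf_symm]; exact act_perp_self P C hg hgz hgQ e1
  refine ⟨?_, by rw [bf_add_left, hb, bf_self, add_zero], fun h => ?_⟩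
  · rw [qf_add, P.S.act_qf hgz, base_facts.1, hb]; decide
  · rcases z_or_e1 _ (by rw [bf_add_left, hb, bf_self, add_zero]) h with e | e
    · exact hne (by rw [← add_zero (act Q φ g e1), ← v_self e1, ← add_assoc, e, zero_add])
    · have h0 : act Q φ g e1 = 0 := add_eq_right.1 e
      have h1 := congrArg (act Q φ g⁻¹) h0
      rw [P.S.act_inv_left hgz] at h1
      have h00 := P.S.act_add (inv_comm_z hgz) 0 0
      rw [add_zero] at h00
      exact base_facts.2.2.2.2.2.2.2.2.2.2.1 (h1.trans (left_eq_add.1 h00))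

theorem exists_outer_frame : ∃ k w, k * z = z * k ∧ act Q φ k (act Q φ g e1 + e1) = e1 ∧
    HasPar P (k * g * k⁻¹) ((0, w) : W × W) := by
  obtain ⟨hp0, -, hp2⟩ := axis_facts P C hg hgz hgQ hne
  obtain ⟨k, hk, hk'⟩ := P.S.exists_to_e1 hp0 fun e => hp2 (e ▸ rfl)
  obtain ⟨p, hp, hq⟩ := axis P C hg hgz hgQ base_facts.1 base_facts.2.2.2.2.2.2.2.2.2.2.1
    (Or.inr ⟨hne, rfl⟩) hk hk'
  rcases (zpar_facts p hq).2.2 with e | e
  · exact ⟨k, p.2, hk, hk', by rwa [show ((0, p.2) : W × W) = p by rw [← e]]⟩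
  · refine ⟨P.yv * k, p.2, mul_comm_z (P.S.commQ P.yv_mem) hk, ?_, ?_⟩
    · rw [P.S.act_mul (P.S.commQ P.yv_mem) hk, hk', P.S.act_of_mem P.yv_mem]
    · have h := par_yv P hp
      rw [e, show p.2 + p.2 = (0 : W) from (by decide +kernel : ∀ x : W, x + x = 0) _] at h
      rwa [show P.yv * k * g * (P.yv * k)⁻¹ = P.yv * (k * g * k⁻¹) * P.yv⁻¹ by group]

theorem not_mem_Q_sq : g * t * (g * t) ∉ Q := by
  intro h
  have htz := t_comm_z P C
  refine not_comm_act P C hgz (invol_of_isConj P.S.zz P.S.zne hg).1 hne fun x => ?_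
  have h2 := P.S.act_of_mem h (rad0 (act Q φ g x))
  rw [P.S.act_mul (mul_comm_z hgz htz) (mul_comm_z hgz htz), P.S.act_mul hgz htz,
    P.S.act_mul hgz htz, t_act P C, t_act P C, ← t_act P C (rad0 (act Q φ g x)), ← t_act P C (act Q φ g x),
    ← P.S.act_mul htz htz, C.sq, P.S.act_of_mem (one_mem Q), t_act P C] at h2
  rwa [← P.S.act_mul hgz hgz, (invol_of_isConj P.S.zz P.S.zne hg).1,
    P.S.act_of_mem (one_mem Q)] at h2

/-- The standard involution fixes the axis. -/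
theorem mem_BSet_fixed (h0 : bW (act Q φ g e1 + e1).2 tp.2 = 0) :
    z ∈ zpowers (g * t) ↔ bW (act Q φ g e1 + e1).2 tp.1 = 1 := by
  have htz := t_comm_z P C
  obtain ⟨-, hpe, -⟩ := axis_facts P C hg hgz hgQ hne
  obtain ⟨k, w, hk, hk', hp⟩ := exists_outer_frame P C hg hgz hgQ hne
  obtain ⟨p, hpdef⟩ : ∃ p, p = act Q φ g e1 + e1 := ⟨_, rfl⟩
  rw [← hpdef] at h0 hpe hk' ⊢
  have hki := inv_comm_z hk
  obtain ⟨g₁, hg₁⟩ : ∃ x, x = k * g * k⁻¹ := ⟨_, rfl⟩
  obtain ⟨t', ht'⟩ : ∃ x, x = k * t * k⁻¹ := ⟨_, rfl⟩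
  rw [← hg₁] at hp
  have ht'z : t' * z = z * t' := ht' ▸ mul_comm_z (mul_comm_z hk htz) hki
  have hg₁Z : IsConj z g₁ := hg₁ ▸ hg.trans (isConj_iff.2 ⟨k, rfl⟩)
  have hg₁Q : g₁ ∉ Q := fun e => hgQ (by
    simpa [hg₁, mul_assoc] using P.S.norm hki e)
  -- the member of `Q` over the axis
  obtain ⟨a, ha⟩ : ∃ a, a = k⁻¹ * u * k := ⟨_, rfl⟩
  have haQ : a ∈ Q := by
    have := P.S.norm hki P.mem
    rwa [inv_inv, ← ha] at this
  have haφ : φ a = p := by
    have := P.S.act_phi hki P.mem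
    rw [inv_inv, P.he, ← ha, ← hk', P.S.act_inv_left hk] at this
    exact this.symm
  have hapar : HasPar P a (p.2, 0) := haφ ▸ par_of_mem P haQ ((P.comm_u haQ).2 (haφ ▸ hpe))
  have hacomm : a * t = t * a ↔ bW p.2 tp.1 = 0 := by
    rw [comm_iff P C hapar]
    have z0 : ∀ y : W, bW y 0 = 0 ∧ bW 0 y = 0 := by unfold bW; decide +kernel
    have h0' : bW p.2 w0.2 = 0 := h0
    constructor
    · intro h
      have h1 : bW p.2 v0.2 + bW p.2 w0.2 + bW v0.2 0 = 0 := h.1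
      rw [(z0 _).1, h0', add_zero, add_zero] at h1
      exact h1
    · intro h
      refine ⟨?_, ?_⟩
      · show bW p.2 v0.2 + bW p.2 w0.2 + bW v0.2 0 = 0
        rw [(z0 _).1, h0', show bW p.2 v0.2 = 0 from h]; decide
      · show bW 0 w0.2 + bW p.2 w0.2 + bW v0.2 0 = 0
        rw [(z0 _).1, (z0 _).2, h0']; decide
  have hsq : g₁ * t' * (g₁ * t') = g₁ * (t' * g₁ * t'⁻¹) := by
    rw [show t'⁻¹ = t' by
      rw [ht', show (k * t * k⁻¹)⁻¹ = k * t⁻¹ * k⁻¹ by group, inv_eq_of_mul_eq_one_right C.sq]]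
    group
  have hnQ : g₁ * t' * (g₁ * t') ∉ Q := fun h => by
    refine not_mem_Q_sq P C hg hgz hgQ hne ?_
    have := P.S.norm hki h
    rwa [hg₁, ht', show k⁻¹ * (k * g * k⁻¹ * (k * t * k⁻¹) * (k * g * k⁻¹ * (k * t * k⁻¹))) * k⁻¹⁻¹ =
      g * t * (g * t) by group] at this
  have hzp : z ∈ zpowers (g * t) ↔ z ∈ zpowers (g₁ * t') := by
    rw [hg₁, ht', show k * g * k⁻¹ * (k * t * k⁻¹) = k * (g * t) * k⁻¹ by group]
    constructor <;> intro h <;> obtain ⟨i, hi⟩ := mem_zpowers_iff.1 h <;>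
      refine mem_zpowers_iff.2 ⟨i, ?_⟩
    · rw [conj_zpow, hi, P.S.conjZ hk]
    · rw [conj_zpow] at hi
      calc (g * t) ^ i = k⁻¹ * (k * (g * t) ^ i * k⁻¹) * k := by group
        _ = z := by rw [hi, mul_assoc, ← hk, inv_mul_cancel_left]
  rw [hzp]
  constructor
  · intro hmem
    refine (z2_cases' _).resolve_left fun hv => ?_
    have hta : a * t = t * a := hacomm.2 hv
    have ht'u : t' * u = u * t' := by
      rw [ht', show u = k * a * k⁻¹ by rw [ha]; group]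
      calc k * t * k⁻¹ * (k * a * k⁻¹) = k * (t * a) * k⁻¹ := by group
        _ = k * (a * t) * k⁻¹ := by rw [hta]
        _ = _ := by group
    have hgQ' : g₁ ∈ Q' := mem_Q'_of P hp rfl
    have hc : g₁ * (t' * g₁ * t'⁻¹) ∈ Q' := mul_mem hgQ' (P.T.norm ht'u hgQ')
    obtain ⟨c, hcdef⟩ : ∃ c, c = g₁ * (t' * g₁ * t'⁻¹) := ⟨_, rfl⟩
    rw [← hcdef] at hc hsq
    rw [hsq] at hnQ
    have hcmem : c ∈ zpowers (g₁ * t') := hsq ▸ mul_mem (mem_zpowers _) (mem_zpowers _)
    rcases z2_cases' (qf (φ' c)) with e | e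
    · have hcc : c * c = 1 := P.T.invol_of_sing hc e
      exact hnQ (invol_unique hcmem hcc (fun h => hnQ (h ▸ one_mem Q)) hmem P.S.zz P.S.zne ▸ P.S.zQ)
    · have hcc : c * c = u := by rw [P.T.hsq c hc, e, zp_one]
      exact P.une (invol_unique (hcc ▸ mul_mem hcmem hcmem) P.T.zz P.T.zne hmem P.S.zz P.S.zne)
  · intro hv
    have hta : ¬ a * t = t * a := fun h => by
      rw [hacomm.1 h] at hv; exact absurd hv (by decide)
    -- `t'` moves `u` to `u z`
    have htat : t * a * t⁻¹ = a * z := by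
      refine (P.S.phi_eq (P.S.norm htz haQ) haQ ?_).resolve_left fun h =>
        hta (mul_inv_eq_iff_eq_mul.1 h).symm
      rw [← P.S.act_phi htz haQ, t_act P C, haφ, rad0_perp _ hpe,
        show bf p w0 = bW p.2 w0.2 from bf_par P hpe base_facts.2.2.2.2.2.1,
        show bW p.2 w0.2 = 0 from h0]
      simp [sm]
    have ht'u : t' * u * t'⁻¹ = u * z := by
      rw [ht', show u = k * a * k⁻¹ by rw [ha]; group]
      calc k * t * k⁻¹ * (k * a * k⁻¹) * (k * t * k⁻¹)⁻¹ = k * (t * a * t⁻¹) * k⁻¹ := by group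
        _ = k * a * k⁻¹ * (k * z * k⁻¹) := by rw [htat]; group
        _ = k * a * k⁻¹ * z := by rw [P.S.conjZ hk]
    have hyy : P.yv * P.yv = 1 :=
      P.S.invol_of_sing P.yv_mem (by rw [P.yv_phi]; exact base_facts.2.1)
    have hyi : P.yv⁻¹ = P.yv := inv_eq_of_mul_eq_one_right hyy
    have hy := P.S.commQ P.yv_mem
    have h2u : P.yv * t' * u = u * (P.yv * t') := by
      rw [← mul_inv_eq_iff_eq_mul]
      calc P.yv * t' * u * (P.yv * t')⁻¹ = P.yv * (t' * u * t'⁻¹) * P.yv⁻¹ := by group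
        _ = P.yv * u * P.yv⁻¹ * (P.yv * z * P.yv⁻¹) := by rw [ht'u]; group
        _ = u := by rw [P.y_u, P.S.conjZ hy, mul_assoc, P.S.zz, mul_one]
    have hc := par_conj P hp (mul_comm_z hy ht'z) h2u
    obtain ⟨y, hy2⟩ : ∃ y, y = (act Q φ (P.yv * t') ((0, 0), w)).2 := ⟨_, rfl⟩
    obtain ⟨c, hcdef⟩ : ∃ c, c = P.yv * t' * g₁ * (P.yv * t')⁻¹ := ⟨_, rfl⟩
    have h00 : (act Q φ (P.yv * t') (((0, 0), (0 : W)) : V)).2 = 0 := by
      have h := P.S.act_add (mul_comm_z hy ht'z) 0 0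
      rw [add_zero] at h
      exact congrArg Prod.snd (left_eq_add.1 h)
    rw [← hcdef, ← hy2, h00] at hc
    have hcQ : c ∉ Q := fun e => hg₁Q (by
      have := P.S.norm (inv_comm_z (mul_comm_z hy ht'z)) e
      rwa [hcdef, show (P.yv * t')⁻¹ * (P.yv * t' * g₁ * (P.yv * t')⁻¹) * (P.yv * t')⁻¹⁻¹ = g₁ by
        group] at this)
    have hcp : ZPar ((0, y) : W × W) := zpar_of P C hc
      (hcdef ▸ hg₁Z.trans (isConj_iff.2 ⟨_, rfl⟩)) hcQ
    have hwp : ZPar ((0, w) : W × W) := zpar_of P C hp hg₁Z hg₁Q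
    have hv' : HasPar P (t' * g₁ * t'⁻¹) (y, y) := by
      have h := par_yv P hc
      rw [zero_add, hcdef, show P.yv * (P.yv * t' * g₁ * (P.yv * t')⁻¹) * P.yv⁻¹ =
        P.yv * P.yv * (t' * g₁ * t'⁻¹) * (P.yv * P.yv)⁻¹ by group, hyy, one_mul, inv_one, mul_one] at h
      exact h
    have hprod := HasPar.mul P hp hv'
    rw [← hsq] at hprod
    have hxy : bW w y = 1 := by
      refine (z2_cases' _).resolve_left fun hb => hnQ ((mem_Q_iff P hprod).2 ?_)
      show w + y = 0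
      rcases par_sing w y (zpar_facts _ hwp).1 (zpar_facts _ hcp).1 hb with e | e | e
      · exact absurd e hwp.2.2
      · exact absurd e hcp.2.2
      · rw [e]; exact (by decide +kernel : ∀ x : W, x + x = 0) _
    have h4 := sq_val P hprod
    rw [shift_sq w y (zpar_facts _ hwp).1 (zpar_facts _ hcp).1 hxy,
      show P.cz (1, (0 : ZMod 2)).1 (1, (0 : ZMod 2)).2 = z by
        simp [Pair.cz, zp_zero, zp_one]] at h4
    exact h4 ▸ mul_mem (mul_mem (mem_zpowers _) (mem_zpowers _))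
      (mul_mem (mem_zpowers _) (mem_zpowers _))

/-- The standard involution moves the axis. -/
theorem mem_BSet_moved (h1 : bW (act Q φ g e1 + e1).2 tp.2 = 1) : z ∈ zpowers (g * t) := by
  have htz := t_comm_z P C
  obtain ⟨hgg, -⟩ := invol_of_isConj P.S.zz P.S.zne hg
  obtain ⟨-, hpe, -⟩ := axis_facts P C hg hgz hgQ hne
  have hhz := mul_comm_z hgz htz
  obtain ⟨g', hg'⟩ : ∃ x, x = g * t * g * (g * t)⁻¹ := ⟨_, rfl⟩
  have hg'z : g' * z = z * g' := hg' ▸ mul_comm_z (mul_comm_z hhz hgz) (inv_comm_z hhz)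
  have hg'Q : g' ∉ Q := fun e => hgQ (by
    have := P.S.norm (inv_comm_z hhz) e
    rwa [hg', show (g * t)⁻¹ * (g * t * g * (g * t)⁻¹) * (g * t)⁻¹⁻¹ = g by group] at this)
  have hg'Z : IsConj z g' := hg' ▸ hg.trans (isConj_iff.2 ⟨_, rfl⟩)
  have hti : t⁻¹ = t := inv_eq_of_mul_eq_one_right C.sq
  have hgi : g⁻¹ = g := inv_eq_of_mul_eq_one_right hgg
  have hg'' : g' = g * t * g * t * g := by rw [hg', mul_inv_rev, hti, hgi]; group
  have hact : ∀ x, act Q φ g' x =
      act Q φ g (rad0 (act Q φ g (rad0 (act Q φ g x)))) := fun x => by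
    rw [hg'', P.S.act_mul (mul_comm_z (mul_comm_z hhz hgz) htz) hgz,
      P.S.act_mul (mul_comm_z hhz hgz) htz, P.S.act_mul hhz hgz, P.S.act_mul hgz htz, t_act P C,
      t_act P C]
  have hinv : ∀ x, act Q φ g (act Q φ g x) = x := fun x => by
    rw [← P.S.act_mul hgz hgz, hgg, P.S.act_of_mem (one_mem Q)]
  obtain ⟨p, hp⟩ : ∃ p, p = act Q φ g e1 + e1 := ⟨_, rfl⟩
  rw [← hp] at hpe h1
  have hR : rad0 p = p + e1 := by
    rw [rad0_perp _ hpe, show bf p w0 = bW p.2 w0.2 from bf_par P hpe base_facts.2.2.2.2.2.1,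
      show bW p.2 w0.2 = 1 from h1]
    simp [sm]
  have hge : act Q φ g e1 = p + e1 := by rw [hp, add_assoc, v_self, add_zero]
  have hRe : rad0 e1 = e1 := by decide +kernel
  have hfix : act Q φ g' e1 = e1 := by
    have hgp : act Q φ g p = p := by rw [hp, P.S.act_add hgz, hinv, add_comm]
    rw [hact, hge, rad0_add, hR, hRe, add_assoc, v_self, add_zero, hgp, hR, P.S.act_add hgz, hgp,
      hge, ← add_assoc, v_self, zero_add]
  obtain ⟨p', hp', hq'⟩ := axis P C hg'Z hg'z hg'Q base_facts.1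
    base_facts.2.2.2.2.2.2.2.2.2.2.1 (Or.inl ⟨hfix, rfl⟩) (k := 1) (by simp)
    (P.S.act_of_mem (one_mem Q) e1)
  rw [one_mul, inv_one, mul_one] at hp'
  have hw : bW p'.2 tp.2 = 1 := by
    refine (z2_cases' _).resolve_left fun h0 => ?_
    obtain ⟨a, b, hqa, hqb, hab, hl⟩ := exists_line P C hg hgz hgQ
    obtain ⟨y, hy⟩ := swap_line a hqa b hqb hab (hl e1 ▸ hne) (by rw [← hl, ← hp]; exact h1)
    refine hy ?_
    rw [← hl y, ← hl, ← hl, ← hact, act_par P hp' (zpar_facts p' hq').1]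
    exact line_fixed p'.2 (zpar_facts p' hq').1 h0 y
  have hs := nsq_ne p' hq' hw
  have hsq := sq_val P (HasPar.mul P hp' C.par)
  obtain ⟨r, hr⟩ : ∃ r, r = g' * t * (g' * t) := ⟨_, rfl⟩
  rw [← hr] at hsq
  have hrpow : r = (g * t) ^ 6 := by
    rw [hr, hg'']
    simp only [pow_succ, pow_zero, one_mul, mul_assoc]
  have hrr : r * r = 1 := by rw [hsq, ← P.cz_add, z2_self, z2_self, P.cz_zero]
  have hgr : g * r * g⁻¹ = r := by
    rw [hrpow, ← conj_pow, show g * (g * t) * g⁻¹ = (g * t)⁻¹ by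
      rw [mul_inv_rev, hti, hgi, ← mul_assoc, hgg, one_mul], inv_pow, ← hrpow,
      inv_eq_of_mul_eq_one_right hrr]
  have hmem : r ∈ zpowers (g * t) := hrpow ▸ pow_mem (mem_zpowers _) _
  rcases cz_cases P (i := (sqv (p' + tp)).1) (j := (sqv (p' + tp)).2) (fun e => hs e) with e | e | e <;>
    rw [e] at hsq
  · exact hsq ▸ hmem
  all_goals
    exfalso
    rw [hsq, mul_inv_eq_iff_eq_mul] at hgr
    refine hne ?_
    have hgu : g * u = u * g := by
      first
      | exact hgr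
      | calc g * u = z * z * (g * u) := by rw [P.S.zz, one_mul]
          _ = z * (g * (z * u)) := by rw [← mul_assoc g z u, hgz]; group
          _ = z * (z * u * g) := by rw [hgr]
          _ = u * g := by rw [← mul_assoc, ← mul_assoc, P.S.zz, one_mul]
    rw [← P.he, P.S.act_phi hgz P.mem, hgu, mul_inv_cancel_right, P.he]

theorem mem_BSet_O : z ∈ zpowers (g * t) ↔ OCrit (act Q φ g e1 + e1) := by
  obtain ⟨h1, h2, h3⟩ := axis_facts P C hg hgz hgQ hne
  rcases z2_cases' (bW (act Q φ g e1 + e1).2 tp.2) with e | e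
  · rw [mem_BSet_fixed P C hg hgz hgQ hne e]
    refine ⟨fun h => ⟨h1, h2, h3, Or.inr h⟩, fun ⟨_, _, _, h⟩ => h.resolve_left ?_⟩
    rw [e]; decide
  · exact iff_of_true (mem_BSet_moved P C hg hgz hgQ hne e) ⟨h1, h2, h3, Or.inl e⟩

end Outer

theorem fibre_eq {p : V} (hp : OCrit p) : {g ∈ BSet z t | g ∉ Q ∧ act Q φ g e1 = p + e1}.ncard = 32 := by
  classical
  obtain ⟨hp0, hpe, hp2, hor⟩ := hp
  have hpne : p ≠ 0 := fun e => hp2 (e ▸ rfl)
  have he10 := base_facts.2.2.2.2.2.2.2.2.2.2.1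
  obtain ⟨k, hk, hkp⟩ := P.S.exists_to_e1 hp0 hpne
  obtain ⟨q, hq⟩ : ∃ q, q = act Q φ k e1 := ⟨_, rfl⟩
  have hki := inv_comm_z hk
  have inj : ∀ a b, act Q φ k a = act Q φ k b → a = b := fun a b e => by
    rw [← P.S.act_inv_left hk a, e, P.S.act_inv_left hk]
  have h00 : act Q φ k 0 = 0 := by
    have h := P.S.act_add hk 0 0
    rw [add_zero] at h
    exact left_eq_add.1 h
  have hcard := fibre_card q (by rw [hq, P.S.act_qf hk]; exact base_facts.1)
    (by
      have h := P.S.act_bf hk e1 p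
      rw [hkp, bf_symm e1 p, hpe] at h
      rw [hq]; exact h)
    (fun e => he10 (inj _ _ (hq ▸ e.trans h00.symm)))
    (fun e => hp2 (by rw [← inj e1 p (hq.symm.trans (e.trans hkp.symm))]; rfl))
  have hne : ∀ g, act Q φ g e1 = p + e1 → act Q φ g e1 ≠ e1 := fun g e h => hpne (by
    rw [e] at h; exact add_eq_right.1 h)
  have key : (fun g => k * g * k⁻¹) '' {g ∈ BSet z t | g ∉ Q ∧ act Q φ g e1 = p + e1} =
      {h | ∃ r, HasPar P h r ∧ ZPar r ∧ sgl e1 (emb r.2) q = q + e1} := by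
    ext h
    constructor
    · rintro ⟨g, ⟨⟨hc, hgz, -⟩, hgQ, hge⟩, rfl⟩
      have hvp : act Q φ g e1 + e1 = p := by rw [hge, add_assoc, v_self, add_zero]
      obtain ⟨r, hr, hr'⟩ := axis P C hc hgz hgQ base_facts.1 he10 (Or.inr ⟨hne g hge, hvp.symm⟩) hk hkp
      refine ⟨r, hr, hr', ?_⟩
      rw [← act_par P hr (zpar_facts r hr').1, hq, P.S.act_mul (mul_comm_z hk hgz) hki,
        P.S.act_mul hk hgz, P.S.act_inv_left hk, hge, P.S.act_add hk, hkp, add_comm]
    · rintro ⟨r, hr, hr', hrq⟩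
      obtain ⟨hc, hhz, hhQ⟩ := of_zpar P C hr hr'
      have hgz := mul_comm_z (mul_comm_z hki hhz) hk
      refine ⟨k⁻¹ * h * k, ?_, by group⟩
      have hgQ : k⁻¹ * h * k ∉ Q := fun e => hhQ (by
        have := P.S.norm hk e
        rwa [show k * (k⁻¹ * h * k) * k⁻¹ = h by group] at this)
      have hgc : IsConj z (k⁻¹ * h * k) := hc.trans (isConj_iff.2 ⟨k⁻¹, by group⟩)
      have hge : act Q φ (k⁻¹ * h * k) e1 = p + e1 := by
        refine inj _ _ ?_
        rw [P.S.act_mul (mul_comm_z hki hhz) hk, P.S.act_mul hki hhz, P.S.act_inv_right hk, ← hq,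
          act_par P hr (zpar_facts r hr').1, hrq, P.S.act_add hk, hkp, hq, add_comm]
      refine ⟨⟨hgc, hgz, (mem_BSet_O P C hgc hgz hgQ (hne _ hge)).2 ?_⟩, hgQ, hge⟩
      rw [hge, add_assoc, v_self, add_zero]
      exact ⟨hp0, hpe, hp2, hor⟩
  rw [← Set.ncard_image_of_injective _ (f := fun g => k * g * k⁻¹)
    (fun a b e => mul_left_cancel (mul_right_cancel e)), key, ncard_par P, hcard]

/-- The count at the central involution. -/
theorem ncard_BSet : (BSet z t).ncard = 236 := by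
  classical
  have hQ : {g ∈ BSet z t | g ∈ Q} = {g | g ∈ Q ∧ QCrit (φ g)} := by
    ext g
    exact ⟨fun h => ⟨h.2, (mem_BSet_Q P C h.2).1 h.1⟩, fun h => ⟨(mem_BSet_Q P C h.1).2 h.2, h.1⟩⟩
  have hN : {g ∈ BSet z t | g ∉ Q ∧ act Q φ g e1 = e1} = {g | ∃ p, HasPar P g p ∧ NCrit p} := by
    ext g
    constructor
    · rintro ⟨h1, h2, h3⟩
      exact (mem_BSet_N P C h2).1 ⟨h1, h3⟩
    · rintro ⟨p, hp, hc⟩
      have hgQ := (of_zpar P C hp hc.1).2.2
      obtain ⟨h1, h3⟩ := (mem_BSet_N P C hgQ).2 ⟨p, hp, hc⟩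
      exact ⟨h1, hgQ, h3⟩
  have := Fintype.ofFinite G
  have hO : {g ∈ BSet z t | g ∉ Q ∧ act Q φ g e1 ≠ e1}.ncard = 192 := by
    rw [Set.ncard_eq_toFinset_card']
    rw [Finset.card_eq_sum_card_fiberwise (f := fun g => act Q φ g e1 + e1)
      (t := Finset.univ.filter OCrit) (fun g hg => by
        simp only [Set.toFinset_setOf, Finset.coe_filter, Finset.mem_univ, true_and,
          Set.mem_setOf_eq] at hg ⊢
        exact (mem_BSet_O P C hg.1.1 hg.1.2.1 hg.2.1 hg.2.2).1 hg.1.2.2)]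
    rw [Finset.sum_congr rfl (g := fun _ => 32) fun p hp => ?_, Finset.sum_const, smul_eq_mul,
      ← Fintype.card_subtype, ocrit_card]
    have hp' := (Finset.mem_filter.1 hp).2
    rw [← fibre_eq P C hp', Set.ncard_eq_toFinset_card']
    congr 1
    ext g
    simp only [Finset.mem_filter, Set.mem_toFinset, Set.mem_setOf_eq]
    constructor
    · rintro ⟨⟨h1, h2, -⟩, h4⟩
      exact ⟨h1, h2, by rw [← h4, add_assoc, v_self, add_zero]⟩
    · rintro ⟨h1, h2, h4⟩
      refine ⟨⟨h1, h2, fun e => hp'.2.2.1 ?_⟩, by rw [h4, add_assoc, v_self, add_zero]⟩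
      rw [show p = 0 from add_eq_right.1 (h4.symm.trans e)]
      rfl
  have hsplit : BSet z t = {g ∈ BSet z t | g ∈ Q} ∪
      ({g ∈ BSet z t | g ∉ Q ∧ act Q φ g e1 = e1} ∪
        {g ∈ BSet z t | g ∉ Q ∧ act Q φ g e1 ≠ e1}) := by
    ext g
    simp only [Set.mem_union, Set.mem_setOf_eq]
    tauto
  rw [hsplit, Set.ncard_union_eq ?_ (Set.toFinite _) (Set.toFinite _),
    Set.ncard_union_eq ?_ (Set.toFinite _) (Set.toFinite _), hO, hN, hQ, ncard_par P NCrit,
    ncard_phi P QCrit, qcrit_card, ncrit_card]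
  · exact Set.disjoint_left.2 fun g h h' => h'.2.2 h.2.2
  · exact Set.disjoint_left.2 fun g h h' => h'.elim (fun a => a.2.1 h.2) (fun a => a.2.1 h.2)

end CfsgLib.InvChar.SuzOrder
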