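import Cfsg.Agent.Lib.InvChar.SuzOrder.CountT
import Cfsg.Agent.S1875

/-!
# The order of a group of Suzuki type
-/

set_option autoImplicit false
set_option linter.unusedSectionVars false

namespace CfsgLib.InvChar.SuzOrder

open Subgroup SuzType SuzT

variable {G : Type*} [Group G] [Finite G] {z u : G} {Q Q' : Subgroup G} {φ φ' : G → V}

theorem mem_zp_conj {w a h : G} : h * w * h⁻¹ ∈ zpowers (h * a * h⁻¹) ↔ w ∈ zpowers a := by
  constructor <;> intro hh <;> obtain ⟨i, hi⟩ := mem_zpowers_iff.1 hh <;>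
    refine mem_zpowers_iff.2 ⟨i, ?_⟩
  · rw [conj_zpow] at hi
    exact mul_left_cancel (mul_right_cancel hi)
  · rw [conj_zpow, hi]

/-- A power of a product of two involutions of order two commutes with both. -/
theorem comm_of_mem_zpowers {a b w : G} (ha : a * a = 1) (hb : b * b = 1) (hw : w * w = 1)
    (h : w ∈ zpowers (a * b)) : a * w = w * a ∧ b * w = w * b := by
  obtain ⟨i, rfl⟩ := mem_zpowers_iff.1 h
  have hai := inv_eq_of_mul_eq_one_right ha
  have hbi := inv_eq_of_mul_eq_one_right hb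
  have hwi := inv_eq_of_mul_eq_one_right hw
  have h1 : a * (a * b) ^ i * a⁻¹ = ((a * b) ^ i)⁻¹ := by
    rw [← conj_zpow, ← inv_zpow, mul_inv_rev, hbi, hai, ← mul_assoc a a b, ha, one_mul]
  have h2 : b * (a * b) ^ i * b⁻¹ = ((a * b) ^ i)⁻¹ := by
    rw [← conj_zpow, ← inv_zpow, mul_inv_rev, hbi, hai, mul_assoc b (a * b) b, mul_assoc a b b, hb,
      mul_one]
  rw [hwi] at h1 h2
  exact ⟨mul_inv_eq_iff_eq_mul.1 h1, mul_inv_eq_iff_eq_mul.1 h2⟩

variable (P : Pair z u Q Q' φ φ') {t : G} (C : Ctx P t)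
include P C

theorem pairs_z :
    Nat.card {q : G × G // IsConj z q.1 ∧ IsConj t q.2 ∧ z ∈ zpowers (q.1 * q.2)} = 6480 * 236 := by
  classical
  have := Fintype.ofFinite G
  have h : {x : G | IsConj t x ∧ x * z = z * x}.ncard = 6480 := ncard_t_cz P C
  rw [Nat.card_eq_fintype_card, Fintype.card_subtype,
    Finset.card_eq_sum_card_fiberwise (f := Prod.snd)
      (t := Finset.univ.filter fun x => IsConj t x ∧ x * z = z * x) (fun q hq => by
        obtain ⟨h1, h2, h3⟩ := (Finset.mem_filter.1 hq).2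
        exact Finset.mem_filter.2 ⟨Finset.mem_univ _, h2,
          (comm_of_mem_zpowers (invol_of_isConj P.S.zz P.S.zne h1).1
            (invol_of_isConj C.sq (t_ne P C) h2).1 P.S.zz h3).2⟩),
    Finset.sum_congr rfl (g := fun _ => 236) fun v hv => ?_, Finset.sum_const, smul_eq_mul,
    ← Set.ncard_coe_finset,
    show ((Finset.univ.filter fun x => IsConj t x ∧ x * z = z * x : Finset G) : Set G) =
      {x | IsConj t x ∧ x * z = z * x} by ext; simp, h]
  obtain ⟨hv1, hv2⟩ := (Finset.mem_filter.1 hv).2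
  obtain ⟨k, hk, rfl⟩ := conj_z_in_cz P C hv1 hv2
  rw [← ncard_BSet P C, ← Set.ncard_coe_finset]
  symm
  refine Set.ncard_congr (fun g _ => (k * g * k⁻¹, k * t * k⁻¹)) ?_ ?_ ?_
  · rintro g ⟨h1, h2, h3⟩
    simp only [Finset.coe_filter, Finset.mem_filter, Finset.mem_univ, true_and, Set.mem_setOf_eq,
      and_true]
    refine ⟨h1.trans (isConj_iff.2 ⟨k, rfl⟩), hv1, ?_⟩
    rw [show k * g * k⁻¹ * (k * t * k⁻¹) = k * (g * t) * k⁻¹ by group, ← P.S.conjZ hk]
    exact mem_zp_conj.2 h3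
  · intro a b _ _ e
    exact mul_left_cancel (mul_right_cancel (congrArg Prod.fst e))
  · rintro ⟨a, b⟩ hq
    simp only [Finset.coe_filter, Finset.mem_filter, Finset.mem_univ, true_and, Set.mem_setOf_eq] at hq
    obtain ⟨⟨h1, -, h3⟩, rfl⟩ := hq
    obtain ⟨ha, -⟩ := comm_of_mem_zpowers (invol_of_isConj P.S.zz P.S.zne h1).1
      (invol_of_isConj C.sq (t_ne P C) hv1).1 P.S.zz h3
    have hki := inv_comm_z hk
    refine ⟨k⁻¹ * a * k, ⟨h1.trans (isConj_iff.2 ⟨k⁻¹, by group⟩),
      mul_comm_z (mul_comm_z hki ha) hk, ?_⟩, Prod.ext (by group) rfl⟩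
    rw [← P.S.conjZ hki, show k⁻¹ * a * k * t = k⁻¹ * (a * (k * t * k⁻¹)) * k⁻¹⁻¹ by group]
    exact mem_zp_conj.2 h3

variable {E L : Subgroup G} {σ o : G} (M : Mid P t E σ o) (D : Comp P t E L)
include M D

theorem pairs_t :
    Nat.card {q : G × G // IsConj z q.1 ∧ IsConj t q.2 ∧ t ∈ zpowers (q.1 * q.2)} = 315 * 193 := by
  classical
  have := Fintype.ofFinite G
  have h : {x : G | IsConj z x ∧ x * t = t * x}.ncard = 315 := ncard_z_ct P C M D
  rw [Nat.card_eq_fintype_card, Fintype.card_subtype,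
    Finset.card_eq_sum_card_fiberwise (f := Prod.fst)
      (t := Finset.univ.filter fun x => IsConj z x ∧ x * t = t * x) (fun q hq => by
        obtain ⟨h1, h2, h3⟩ := (Finset.mem_filter.1 hq).2
        exact Finset.mem_filter.2 ⟨Finset.mem_univ _, h1,
          (comm_of_mem_zpowers (invol_of_isConj P.S.zz P.S.zne h1).1
            (invol_of_isConj C.sq (t_ne P C) h2).1 C.sq h3).1⟩),
    Finset.sum_congr rfl (g := fun _ => 193) fun v hv => ?_, Finset.sum_const, smul_eq_mul,
    ← Set.ncard_coe_finset,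
    show ((Finset.univ.filter fun x => IsConj z x ∧ x * t = t * x : Finset G) : Set G) =
      {x | IsConj z x ∧ x * t = t * x} by ext; simp, h]
  obtain ⟨hv1, hv2⟩ := (Finset.mem_filter.1 hv).2
  obtain ⟨m, hm, hmv⟩ := conj_in_K P C hv1.symm hv2
  obtain ⟨k, rfl⟩ : ∃ k, v = k * z * k⁻¹ := ⟨m⁻¹, by rw [← hmv]; group⟩
  have hkt : m⁻¹ * t * m = t := by rw [mul_assoc, ← hm, inv_mul_cancel_left]
  rw [← ncard_TSet P C M D, ← Set.ncard_coe_finset]
  symm
  refine Set.ncard_congr (fun x _ => (k * z * k⁻¹, m⁻¹ * x * m)) ?_ ?_ ?_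
  · rintro x ⟨h1, h3⟩
    simp only [Finset.coe_filter, Finset.mem_filter, Finset.mem_univ, true_and, Set.mem_setOf_eq,
      and_true]
    refine ⟨hv1, h1.trans (isConj_iff.2 ⟨m⁻¹, by group⟩), ?_⟩
    have e : k * z * k⁻¹ = m⁻¹ * z * m :=
      (show k * z * k⁻¹ = m⁻¹ * (m * (k * z * k⁻¹) * m⁻¹) * m by group).trans (by rw [hmv])
    rw [e, ← hkt, show m⁻¹ * z * m * (m⁻¹ * x * m) = m⁻¹ * (z * x) * m⁻¹⁻¹ by group,
      show m⁻¹ * t * m = m⁻¹ * t * m⁻¹⁻¹ by group]
    exact mem_zp_conj.2 h3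
  · intro a b _ _ e
    exact mul_left_cancel (mul_right_cancel (congrArg Prod.snd e))
  · rintro ⟨a, b⟩ hq
    simp only [Finset.coe_filter, Finset.mem_filter, Finset.mem_univ, true_and, Set.mem_setOf_eq] at hq
    obtain ⟨⟨-, h2, h3⟩, rfl⟩ := hq
    refine ⟨m * b * m⁻¹, ⟨h2.trans (isConj_iff.2 ⟨m, rfl⟩), ?_⟩, Prod.ext rfl (by group)⟩
    have e : m * t * m⁻¹ = t := by rw [hm, mul_inv_cancel_right]
    rw [← e, ← hmv, show m * (k * z * k⁻¹) * m⁻¹ * (m * b * m⁻¹) = m * (k * z * k⁻¹ * b) * m⁻¹ by group]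
    exact mem_zp_conj.2 h3

/-- A group of Suzuki type has order 448345497600. -/
theorem card_eq : Nat.card G = 448345497600 := by
  classical
  have hzt : ¬ IsConj z t := t_not_z P C
  have hzo : orderOf z = 2 := orderOf_eq_prime (by rw [pow_two, P.S.zz]) P.S.zne
  have hne : z ≠ t := z_ne_t P C
  have hform := Cfsg.Agent.S1875.result z t hzo (order_t P C) hzt ({z, t} : Finset G)
    (by
      intro w hw
      simp only [Finset.mem_insert, Finset.mem_singleton] at hw
      rcases hw with rfl | rfl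
      exacts [hzo, order_t P C])
    (by
      intro v hv
      rcases SuzT.classes P C hv with h | h
      · refine ⟨z, by simp, h, fun w hw hw' => ?_⟩
        simp only [Finset.mem_insert, Finset.mem_singleton] at hw
        rcases hw with rfl | rfl
        · rfl
        · exact absurd (h.symm.trans hw') hzt
      · refine ⟨t, by simp, h, fun w hw hw' => ?_⟩
        simp only [Finset.mem_insert, Finset.mem_singleton] at hw
        rcases hw with rfl | rfl
        · exact absurd (hw'.symm.trans h) hzt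
        · rfl)
  rw [Finset.sum_pair hne, pairs_z P C, pairs_t P C M D, P.S.cardC, card_ct P C M D] at hform
  have : (Nat.card G : ℚ) = ((448345497600 : ℕ) : ℚ) := by rw [hform]; norm_num
  exact_mod_cast this

end CfsgLib.InvChar.SuzOrder

namespace CfsgLib.InvChar.SuzOrder

open SuzType SuzT

/-- The order, from the coordinates alone. -/
theorem card_of_pair {G : Type*} [Group G] [Finite G] {z u : G} {Q Q' : Subgroup G}
    {φ φ' : G → V} (P : Pair z u Q Q' φ φ') : Nat.card G = 448345497600 := by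
  obtain ⟨t, C⟩ := exists_ctx P
  obtain ⟨E, σ, o, M⟩ := exists_mid P C
  obtain ⟨L, D⟩ := exists_comp P C M
  exact card_eq P C M D

end CfsgLib.InvChar.SuzOrder
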