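import Cfsg.Agent.Lib.InvChar.SuzT.Flag

/-!
# Transvections of the elliptic space attached to totally singular lines

The finite facts behind the order formula for a group of Suzuki type.
-/

set_option autoImplicit false
set_option synthInstance.maxSize 4096
set_option synthInstance.maxHeartbeats 400000

namespace CfsgLib.InvChar.SuzOrder

open SuzType SuzT

/-- The transvection of the line spanned by `a` and `b`. -/
def sgl (a b x : V) : V := x + sm (bf x b) a + sm (bf x a) b

/-- The vector of `e1⊥` with the given image in `e1⊥/e1`. -/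
def emb (x : W) : V := ((0, 0), x)

theorem sg_rad : ∀ w : W, qW w = 0 → ∀ x : V, qf (sgl e1 (emb w) x) = qf x ∧
    bf x (sgl e1 (emb w) x) = 0 ∧ sgl e1 (emb w) (sgl e1 (emb w) x) = x ∧
    sgl e1 (emb w) e1 = e1 ∧ (bf x e1 = 0 → (sgl e1 (emb w) x).2 = x.2) := by
  unfold qW emb sgl; decide +kernel

theorem sg_cvec : ∀ w : W, (sgl e1 (emb w) f1 + f1).2 = w := by
  unfold emb sgl; decide +kernel

theorem sgl_add : ∀ a b x y : V, sgl a b (x + y) = sgl a b x + sgl a b y := by
  intro a b x y
  have h : ∀ c d : ZMod 2, ∀ u : V, sm (c + d) u = sm c u + sm d u := by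
    intro c d u
    rcases z2_cases' c with rfl | rfl <;> rcases z2_cases' d with rfl | rfl <;>
      simp [sm, v_self, show (1 : ZMod 2) + 1 = 0 from rfl]
  unfold sgl
  rw [bf_add_left, bf_add_left, h, h]
  abel

/-- A fixed singular vector, or the displacement of a moved one, is an axis. -/
theorem sg_axis : ∀ w : W, qW w = 0 → ∀ x0 : V, qf x0 = 0 → x0 ≠ 0 →
    (sgl e1 (emb w) x0 = x0 → ∀ x : V, bf x x0 = 0 →
      sgl e1 (emb w) x = x ∨ sgl e1 (emb w) x = x + x0) ∧
    (sgl e1 (emb w) x0 ≠ x0 → ∀ x : V, bf x (sgl e1 (emb w) x0 + x0) = 0 →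
      sgl e1 (emb w) x = x ∨ sgl e1 (emb w) x = x + (sgl e1 (emb w) x0 + x0)) := by
  unfold qW emb sgl; decide +kernel

/-- The two parameters of a `z`-class involution of the pair group. -/
def ZPar (p : W × W) : Prop := IP p ∧ bW p.1 p.2 = 0 ∧ p.2 ≠ 0

instance : DecidablePred ZPar := fun p => by unfold ZPar; infer_instance

theorem zpar_facts : ∀ p : W × W, ZPar p →
    qW p.2 = 0 ∧ qW p.1 = 0 ∧ (p.1 = 0 ∨ p.1 = p.2) := by
  unfold ZPar IP qW bW; decide +kernel

/-- The value of the square of an element with parameters `p`. -/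
def sqv (p : W × W) : ZMod 2 × ZMod 2 := (qW p.1 + bW p.1 p.2, qW p.2 + bW p.1 p.2)

/-- The condition for an involution of `Q` to count. -/
def QCrit (x : V) : Prop :=
  x ≠ 0 ∧ qf x = 0 ∧ ((rad0 x = x ∧ bW x.2 tp.1 = 1) ∨ qf (x + rad0 x) = 1)

instance : DecidablePred QCrit := fun x => by unfold QCrit; infer_instance

/-- The condition for an involution of the pair group outside `Q` to count. -/
def NCrit (p : W × W) : Prop := ZPar p ∧ sqv (p + tp) = (1, 0)

instance : DecidablePred NCrit := fun p => by unfold NCrit; infer_instance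

/-- The condition on the axis for an involution outside the pair group to count. -/
def OCrit (p : V) : Prop :=
  qf p = 0 ∧ bf p e1 = 0 ∧ p.2 ≠ 0 ∧ (bW p.2 tp.2 = 1 ∨ bW p.2 tp.1 = 1)

instance : DecidablePred OCrit := fun p => by unfold OCrit; infer_instance

theorem qcrit_card : Fintype.card {x : V // QCrit x} = 18 := by decide +kernel

theorem ncrit_card : Fintype.card {p : W × W // NCrit p} = 2 := by decide +kernel

theorem ocrit_card : Fintype.card {p : V // OCrit p} = 6 := by decide +kernel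

theorem fibre_card : ∀ q : V, qf q = 0 → bf q e1 = 0 → q ≠ 0 → q ≠ e1 →
    Fintype.card {p : W × W // ZPar p ∧ sgl e1 (emb p.2) q = q + e1} = 8 := by decide +kernel

theorem fixed_perp : ∀ x : V, qf x = 0 → rad0 x = x → bf x e1 = 0 ∧ bW x.2 tp.2 = 0 := by
  unfold bW; decide +kernel

theorem tp_vals : tp.1 = v0.2 ∧ tp.2 = w0.2 := ⟨rfl, rfl⟩

/-- The vector moved by the line of `f rad0 f rad0 f`. -/
theorem swap_line : ∀ a : V, qf a = 0 → ∀ b : V, qf b = 0 → bf a b = 0 →
    sgl a b e1 ≠ e1 → bW (sgl a b e1 + e1).2 tp.2 = 1 →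
    ∃ y : V, rad0 (sgl a b (rad0 (sgl a b (rad0 (sgl a b y)))) + y) ≠
      sgl a b (rad0 (sgl a b (rad0 (sgl a b y)))) + y := by
  unfold bW sgl; decide +kernel

theorem line_fixed : ∀ w : W, qW w = 0 → bW w tp.2 = 0 → ∀ y : V,
    rad0 (sgl e1 (emb w) y + y) = sgl e1 (emb w) y + y := by
  unfold qW bW emb sgl; decide +kernel

/-- The square of a pair-group involution times the standard one is not trivial. -/
theorem nsq_ne : ∀ p : W × W, ZPar p → bW p.2 tp.2 = 1 → sqv (p + tp) ≠ 0 := by
  unfold sqv ZPar IP qW bW; decide +kernel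

theorem shift_sq : ∀ x y : W, qW x = 0 → qW y = 0 → bW x y = 1 →
    sqv (((0, x) : W × W) + (y, y)) = (1, 0) := by
  unfold sqv qW bW; decide +kernel

end CfsgLib.InvChar.SuzOrder
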